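import Mathlib
import Cfsg.Prelude.Def_KGroupFacts

set_option autoImplicit false

/-! Abstract lemmas for the computation of outer automorphism groups: automorphisms agreeing with
an inner one on generators, the Sylow argument for an element of prime order, the index of the
inner automorphisms, conjugation by an element normalizing a subgroup, and a parity argument for
permutations of order 8. -/

namespace Cfsg.Agent.Lib.Helper3.OutAut

open Cfsg

section abstract

variable {G : Type*} [Group G]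

theorem mulAut_eq_conj {S : Set G} (hS : Subgroup.closure S = ⊤) (φ : MulAut G) (c : G)
    (h : ∀ s ∈ S, φ s = c * s * c⁻¹) : φ = MulAut.conj c := by
  have key : (φ.toMonoidHom : G →* G) = (MulAut.conj c).toMonoidHom :=
    MonoidHom.eq_of_eqOn_dense hS (fun s hs => by
      show φ s = MulAut.conj c s
      rw [MulAut.conj_apply]; exact h s hs)
  ext x
  exact DFunLike.congr_fun key x

theorem conj_pow_iter {a c : G} {k : ℕ} (hca : c * a * c⁻¹ = a ^ k) (j : ℕ) :
    c ^ j * a * (c ^ j)⁻¹ = a ^ (k ^ j) := by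
  induction j with
  | zero => simp
  | succ j ih =>
    have e : c ^ (j + 1) * a * (c ^ (j + 1))⁻¹ = c * (c ^ j * a * (c ^ j)⁻¹) * c⁻¹ := by
      rw [pow_succ']; group
    rw [e, ih, ← conj_pow, hca, ← pow_mul, pow_succ']

theorem exists_conj_pow [Finite G] {p : ℕ} [hp : Fact p.Prime]
    (hfac : (Nat.card G).factorization p = 1) {a : G} (ha : orderOf a = p) (φ : MulAut G) :
    ∃ g : G, ∃ m : ℕ, φ a = g * a ^ m * g⁻¹ := by
  have hcardP : Nat.card (Subgroup.zpowers a) = p ^ (Nat.card G).factorization p := by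
    rw [Nat.card_zpowers, ha, hfac, pow_one]
  have hcardQ : Nat.card (Subgroup.zpowers (φ a)) = p ^ (Nat.card G).factorization p := by
    rw [Nat.card_zpowers, MulEquiv.orderOf_eq, ha, hfac, pow_one]
  let P : Sylow p G := Sylow.ofCard _ hcardP
  let Q : Sylow p G := Sylow.ofCard _ hcardQ
  obtain ⟨g, hg⟩ := MulAction.exists_smul_eq G P Q
  have hmem : φ a ∈ (Q : Subgroup G) := by
    show φ a ∈ Subgroup.zpowers (φ a)
    exact Subgroup.mem_zpowers _
  rw [← hg, Sylow.coe_subgroup_smul, Subgroup.mem_pointwise_smul_iff_inv_smul_mem] at hmem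
  have hmem' : g⁻¹ * φ a * g ∈ Subgroup.zpowers a := by
    have : (MulAut.conj g)⁻¹ • φ a = g⁻¹ * φ a * g := by
      rw [← map_inv, MulAut.smul_def, MulAut.conj_apply, inv_inv]
    rw [this] at hmem
    exact hmem
  rw [← mem_powers_iff_mem_zpowers, Submonoid.mem_powers_iff] at hmem'
  obtain ⟨m, hm⟩ := hmem'
  refine ⟨g, m, ?_⟩
  rw [hm]; group

theorem exists_conj_or_inv [Finite G] {p k : ℕ} [hp : Fact p.Prime]
    (hfac : (Nat.card G).factorization p = 1) {a c : G} (ha : orderOf a = p)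
    (hca : c * a * c⁻¹ = a ^ k)
    (hk : ∀ m, m < p → m ≠ 0 → ∃ j, k ^ j % p = m ∨ (k ^ j + m) % p = 0) (φ : MulAut G) :
    ∃ g : G, φ a = g * a * g⁻¹ ∨ φ a = g * a⁻¹ * g⁻¹ := by
  obtain ⟨g, m, hgm⟩ := exists_conj_pow hfac ha φ
  have hmod : a ^ m = a ^ (m % p) := by rw [← ha, pow_mod_orderOf]
  have hne : m % p ≠ 0 := by
    intro h0
    rw [hmod, h0, pow_zero] at hgm
    have : φ a = 1 := by rw [hgm]; group
    have h1 : a = 1 := by
      have := congrArg φ.symm this
      simpa using this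
    rw [h1, orderOf_one] at ha
    exact hp.out.one_lt.ne ha
  obtain ⟨j, hj⟩ := hk (m % p) (Nat.mod_lt _ hp.out.pos) hne
  have hcj := conj_pow_iter hca j
  refine ⟨g * c ^ j, ?_⟩
  rcases hj with hj | hj
  · left
    have : a ^ (m % p) = a ^ (k ^ j) := by
      rw [← hj, ← ha, pow_mod_orderOf]
    rw [hgm, hmod, this, ← hcj]; group
  · right
    have h1 : a ^ (k ^ j + m % p) = 1 := by
      rw [← pow_mod_orderOf, ha, hj, pow_zero]
    have h2 : a ^ (m % p) = (a ^ (k ^ j))⁻¹ := by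
      rw [pow_add] at h1
      exact eq_inv_of_mul_eq_one_right h1
    have h3 : c ^ j * a⁻¹ * (c ^ j)⁻¹ = (a ^ (k ^ j))⁻¹ := by
      rw [← hcj]; group
    rw [hgm, hmod, h2, ← h3]; group

theorem card_out_eq_one (h : ∀ φ : MulAut G, ∃ g : G, φ = MulAut.conj g) :
    Nat.card (Cfsg.Out G) = 1 := by
  show (Cfsg.Inn G).index = 1
  rw [Subgroup.index_eq_one, eq_top_iff]
  intro φ _
  obtain ⟨g, rfl⟩ := h φ
  exact ⟨g, rfl⟩

theorem card_out_eq_two (θ : MulAut G) (hθ : θ ∉ Cfsg.Inn G)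
    (h : ∀ φ : MulAut G, φ ∈ Cfsg.Inn G ∨ θ * φ ∈ Cfsg.Inn G) :
    Nat.card (Cfsg.Out G) = 2 := by
  show (Cfsg.Inn G).index = 2
  rw [Subgroup.index_eq_two_iff]
  refine ⟨θ, fun φ => ?_⟩
  have hN : (Cfsg.Inn G).Normal := Cfsg.innNormal G
  by_cases hφ : φ ∈ Cfsg.Inn G
  · right
    refine ⟨hφ, fun h' => hθ ?_⟩
    have := (Cfsg.Inn G).mul_mem ((Cfsg.Inn G).inv_mem hφ) h'
    rwa [inv_mul_cancel_left] at this
  · left
    refine ⟨?_, hφ⟩
    rcases h φ with h1 | h1
    · exact absurd h1 hφ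
    · have := hN.conj_mem _ h1 θ⁻¹
      have e : θ⁻¹ * (θ * φ) * θ⁻¹⁻¹ = φ * θ := by group
      rwa [e] at this

/-- conjugation by an element normalizing the subgroup -/
def conjAut (H : Subgroup G) (t : G) (h1 : ∀ g ∈ H, t * g * t⁻¹ ∈ H)
    (h2 : ∀ g ∈ H, t⁻¹ * g * t ∈ H) : MulAut H where
  toFun g := ⟨t * g.1 * t⁻¹, h1 g.1 g.2⟩
  invFun g := ⟨t⁻¹ * g.1 * t, h2 g.1 g.2⟩
  left_inv g := Subtype.ext (by show t⁻¹ * (t * g.1 * t⁻¹) * t = g.1; group)
  right_inv g := Subtype.ext (by show t * (t⁻¹ * g.1 * t) * t⁻¹ = g.1; group)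
  map_mul' x y := Subtype.ext (by
    show t * (x.1 * y.1) * t⁻¹ = (t * x.1 * t⁻¹) * (t * y.1 * t⁻¹); group)

theorem conjAut_apply (H : Subgroup G) (t : G) (h1 : ∀ g ∈ H, t * g * t⁻¹ ∈ H)
    (h2 : ∀ g ∈ H, t⁻¹ * g * t ∈ H) (g : H) :
    ((conjAut H t h1 h2 g : H) : G) = t * g.1 * t⁻¹ := rfl

/-- the subgroup generated by two elements of a subgroup, inside the subgroup -/
theorem closure_pair_eq_top {H : Subgroup G} {a b : G} (ha : a ∈ H) (hb : b ∈ H)
    (hgen : H ≤ Subgroup.closure {a, b}) :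
    Subgroup.closure ({⟨a, ha⟩, ⟨b, hb⟩} : Set H) = ⊤ := by
  rw [eq_top_iff]
  rintro ⟨x, hx⟩ -
  have hx' := hgen hx
  have : ∀ y (hy : y ∈ Subgroup.closure ({a, b} : Set G)), ∃ hyH : y ∈ H,
      (⟨y, hyH⟩ : H) ∈ Subgroup.closure ({⟨a, ha⟩, ⟨b, hb⟩} : Set H) := by
    intro y hy
    induction hy using Subgroup.closure_induction with
    | mem z hz =>
      simp only [Set.mem_insert_iff, Set.mem_singleton_iff] at hz
      rcases hz with rfl | rfl
      · exact ⟨ha, Subgroup.subset_closure (by simp)⟩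
      · exact ⟨hb, Subgroup.subset_closure (by simp)⟩
    | one => exact ⟨H.one_mem, Subgroup.one_mem _⟩
    | mul y z _ _ hy hz =>
      obtain ⟨h1, h2⟩ := hy
      obtain ⟨h3, h4⟩ := hz
      exact ⟨H.mul_mem h1 h3, Subgroup.mul_mem _ h2 h4⟩
    | inv y _ hy =>
      obtain ⟨h1, h2⟩ := hy
      exact ⟨H.inv_mem h1, Subgroup.inv_mem _ h2⟩
  obtain ⟨_, h2⟩ := this x hx'
  exact h2

end abstract

/-- a permutation of 24 points of order dividing 8 and sign 1 has a fourth power with a fixed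
point -/
theorem exists_fixed_pow_four {α : Type*} [Fintype α] [DecidableEq α] (hα : Fintype.card α = 24)
    (z : Equiv.Perm α) (h8 : z ^ 8 = 1) (hs : Equiv.Perm.sign z = 1) : ∃ x, (z ^ 4) x = x := by
  by_contra hne
  simp only [not_exists] at hne
  have hfix : ∀ x, z x ≠ x := by
    intro x hx
    exact hne x (Equiv.Perm.pow_apply_eq_self_of_apply_eq_self hx 4)
  have hsupp : z.support = Finset.univ := by
    ext x
    simp [Equiv.Perm.mem_support, hfix x]
  have hdvd : orderOf z ∣ 8 := orderOf_dvd_of_pow_eq_one h8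
  have hall : ∀ n ∈ z.cycleType, n = 8 := by
    intro n hn
    have h1 : n ∣ 8 := (Equiv.Perm.dvd_of_mem_cycleType hn).trans hdvd
    have h2 : 2 ≤ n := Equiv.Perm.two_le_of_mem_cycleType hn
    by_contra h8'
    have h4 : n ∣ 4 := by
      have hle : n ≤ 8 := Nat.le_of_dvd (by norm_num) h1
      interval_cases n <;> simp_all
    obtain ⟨c, τ, hz, hdisj, hc, hcard⟩ := Equiv.Perm.mem_cycleType_iff.mp hn
    have hne' : c.support.Nonempty := by
      rw [← Finset.card_pos, hcard]; omega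
    obtain ⟨x, hx⟩ := hne'
    have hc4 : c ^ 4 = 1 := by
      rw [← orderOf_dvd_iff_pow_eq_one, hc.orderOf, hcard]
      exact h4
    have hτx : τ x = x := by
      rcases hdisj x with h | h
      · exact absurd h (Equiv.Perm.mem_support.mp hx)
      · exact h
    have : (z ^ 4) x = x := by
      rw [hz, hdisj.commute.mul_pow, hc4, one_mul]
      exact Equiv.Perm.pow_apply_eq_self_of_apply_eq_self hτx 4
    exact hne x this
  have hsum : z.cycleType.sum = 24 := by
    rw [Equiv.Perm.sum_cycleType, hsupp, Finset.card_univ, hα]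
  have hrep : z.cycleType = Multiset.replicate (Multiset.card z.cycleType) 8 :=
    Multiset.eq_replicate_card.mpr hall
  have hcard : Multiset.card z.cycleType = 3 := by
    rw [hrep, Multiset.sum_replicate, smul_eq_mul] at hsum
    omega
  have := Equiv.Perm.sign_of_cycleType z
  rw [hsum, hcard, hs] at this
  revert this
  decide

end Cfsg.Agent.Lib.Helper3.OutAut
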