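import Mathlib
import Cfsg.Prelude.Def_KGroupFacts
import Cfsg.Agent.Lib.Helper3.OutAut.Basic
import Cfsg.Agent.Lib.Helper3.Golay.Inv24

set_option autoImplicit false

/-! The automorphisms of a subgroup `H` of `M24` generated by an element `a` of prime order `p`
(with `p² ∤ |H|`) and an involution `b` with a fixed point: from a certificate on the involutions
of `M24` with fixed points, every automorphism fixing `a` is inner. -/

namespace Cfsg.Agent.Lib.Helper3.OutAut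

open Cfsg Cfsg.Agent.Lib.Helper3.Golay

/-- the data and certificates -/
structure AutData (H : Subgroup (Equiv.Perm GolayPt)) where
  p : ℕ
  k : ℕ
  hp : p.Prime
  a : Equiv.Perm GolayPt
  b : Equiv.Perm GolayPt
  c : Equiv.Perm GolayPt
  aN : ℕ
  aiN : ℕ
  bN : ℕ
  ha : a ∈ H
  hb : b ∈ H
  hc : c ∈ H
  hH : H ≤ M24
  haN : HasN a aN
  haiN : HasN a⁻¹ aiN
  hbN : HasN b bN
  hgen : H ≤ Subgroup.closure {a, b}
  hfac : (Nat.card H).factorization p = 1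
  hord : orderOf a = p
  hb2 : orderOf b = 2
  hca : c * a * c⁻¹ = a ^ k
  hk : ∀ m, m < p → m ≠ 0 → ∃ j, k ^ j % p = m ∨ (k ^ j + m) % p = 0
  rels : List (List ℕ × ℕ)
  hrel : ∀ r ∈ rels, evalW a b r.1 ^ r.2 = 1
  inG : ℕ → Bool
  hinG : ∀ y ∈ H, ∀ n, HasN y n → inG n = true
  hfix : ∀ ψ : MulAut H, ∃ q, ((ψ ⟨b, hb⟩ : H) : Equiv.Perm GolayPt) q = q
  cert : T24.all (fun n => !(inG n) || !(rels.all (relOKN aN n)) || inOrbitN aN aiN bN p n) = true

variable {H : Subgroup (Equiv.Perm GolayPt)}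

theorem coe_evalW (x y : H) (w : List ℕ) :
    ((evalW x y w : H) : Equiv.Perm GolayPt) = evalW (x : Equiv.Perm GolayPt) y w :=
  map_evalW H.subtype x y w

/-- relations between two elements of `H` are preserved by homomorphisms -/
theorem rel_image {a b : Equiv.Perm GolayPt} (ha : a ∈ H) (hb : b ∈ H) (ψ : MulAut H)
    {r : List ℕ × ℕ} (h : evalW a b r.1 ^ r.2 = 1) :
    evalW ((ψ ⟨a, ha⟩ : H) : Equiv.Perm GolayPt) (ψ ⟨b, hb⟩ : H) r.1 ^ r.2 = 1 := by
  have h1 : (evalW (⟨a, ha⟩ : H) ⟨b, hb⟩ r.1) ^ r.2 = 1 := by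
    apply Subtype.ext
    rw [Subgroup.coe_pow, coe_evalW]
    exact h
  have h2 := congrArg ψ h1
  have e : ψ (evalW (⟨a, ha⟩ : H) ⟨b, hb⟩ r.1) = evalW (ψ ⟨a, ha⟩) (ψ ⟨b, hb⟩) r.1 :=
    map_evalW ψ.toMonoidHom _ _ _
  rw [map_pow, map_one, e] at h2
  have h3 := congrArg (fun z : H => (z : Equiv.Perm GolayPt)) h2
  simp only [Subgroup.coe_pow, Subgroup.coe_one] at h3
  rw [coe_evalW] at h3
  exact h3

theorem orderOf_image {b : Equiv.Perm GolayPt} (hb : b ∈ H) (ψ : MulAut H) :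
    orderOf ((ψ ⟨b, hb⟩ : H) : Equiv.Perm GolayPt) = orderOf b := by
  rw [Subgroup.orderOf_coe, MulEquiv.orderOf_eq, ← Subgroup.orderOf_coe]

namespace AutData

variable (D : AutData H)

/-- the image of `b` under an automorphism has its code in the tree -/
theorem image_mem (ψ : MulAut H) :
    ∃ n, T24.Mem n ∧ HasN ((ψ ⟨D.b, D.hb⟩ : H) : Equiv.Perm GolayPt) n := by
  obtain ⟨q, hq⟩ := D.hfix ψ
  have h2 : orderOf ((ψ ⟨D.b, D.hb⟩ : H) : Equiv.Perm GolayPt) = 2 := by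
    rw [orderOf_image, D.hb2]
  exact mem_C24_of_involution (D.hH (ψ ⟨D.b, D.hb⟩).2) h2 hq

/-- an automorphism fixing `a` is inner -/
theorem inner_of_fix (ψ : MulAut H) (h : ψ ⟨D.a, D.ha⟩ = ⟨D.a, D.ha⟩) :
    ∃ g : H, ψ = MulAut.conj g := by
  obtain ⟨n, hn, hy⟩ := D.image_mem ψ
  have h1 := NTree.all_sound D.cert n hn
  have hG : D.inG n = true := D.hinG _ (ψ ⟨D.b, D.hb⟩).2 n hy
  have hR : D.rels.all (relOKN D.aN n) = true := by
    rw [List.all_eq_true]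
    intro r hr
    apply relOKN_of_eq_one D.haN hy
    have := rel_image D.ha D.hb ψ (D.hrel r hr)
    rw [h] at this
    exact this
  rw [hG, hR] at h1
  simp only [Bool.not_true, Bool.false_or] at h1
  obtain ⟨j, hj⟩ := inOrbitN_sound D.haN D.haiN D.hbN D.p hy h1
  refine ⟨⟨D.a, D.ha⟩ ^ j, ?_⟩
  apply mulAut_eq_conj (closure_pair_eq_top D.ha D.hb D.hgen)
  intro s hs
  simp only [Set.mem_insert_iff, Set.mem_singleton_iff] at hs
  rcases hs with rfl | rfl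
  · rw [h]
    apply Subtype.ext
    simp only [Subgroup.coe_mul, Subgroup.coe_pow, Subgroup.coe_inv]
    rw [pow_mul_comm', mul_inv_cancel_right]
  · apply Subtype.ext
    simp only [Subgroup.coe_mul, Subgroup.coe_pow, Subgroup.coe_inv]
    exact hj

/-- the image of `a` is conjugate to `a` or to its inverse -/
theorem conj_cases (ψ : MulAut H) :
    ∃ g : H, ψ ⟨D.a, D.ha⟩ = g * ⟨D.a, D.ha⟩ * g⁻¹ ∨ ψ ⟨D.a, D.ha⟩ = g * (⟨D.a, D.ha⟩ : H)⁻¹ * g⁻¹ := by
  have : Fact D.p.Prime := ⟨D.hp⟩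
  have hord : orderOf (⟨D.a, D.ha⟩ : H) = D.p := by
    rw [← Subgroup.orderOf_coe]; exact D.hord
  have hca : (⟨D.c, D.hc⟩ : H) * ⟨D.a, D.ha⟩ * (⟨D.c, D.hc⟩ : H)⁻¹ = ⟨D.a, D.ha⟩ ^ D.k := by
    apply Subtype.ext
    simp only [Subgroup.coe_mul, Subgroup.coe_pow, Subgroup.coe_inv]
    exact D.hca
  exact exists_conj_or_inv D.hfac hord hca D.hk ψ

/-- if no involution satisfies the relations together with the inverse of `a`, every automorphism
is inner -/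
theorem inner (cert' : T24.all (fun n => !(D.inG n) || !(D.rels.all (relOKN D.aiN n))) = true)
    (ψ : MulAut H) : ∃ g : H, ψ = MulAut.conj g := by
  obtain ⟨g, hg | hg⟩ := D.conj_cases ψ
  · -- compose with the inverse of the inner automorphism
    have h1 : (MulAut.conj g⁻¹ * ψ) ⟨D.a, D.ha⟩ = ⟨D.a, D.ha⟩ := by
      rw [MulAut.mul_apply, hg, MulAut.conj_apply]; group
    obtain ⟨g', hg'⟩ := D.inner_of_fix _ h1
    refine ⟨g * g', ?_⟩
    have : ψ = MulAut.conj g * (MulAut.conj g⁻¹ * ψ) := by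
      rw [← mul_assoc, ← map_mul, mul_inv_cancel, map_one, one_mul]
    rw [this, hg', ← map_mul]
  · exfalso
    set ψ' : MulAut H := MulAut.conj g⁻¹ * ψ with hψ'
    have h1 : ψ' ⟨D.a, D.ha⟩ = (⟨D.a, D.ha⟩ : H)⁻¹ := by
      rw [hψ', MulAut.mul_apply, hg, MulAut.conj_apply]; group
    obtain ⟨n, hn, hy⟩ := D.image_mem ψ'
    have h2 := NTree.all_sound cert' n hn
    have hG : D.inG n = true := D.hinG _ (ψ' ⟨D.b, D.hb⟩).2 n hy
    have hR : D.rels.all (relOKN D.aiN n) = true := by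
      rw [List.all_eq_true]
      intro r hr
      apply relOKN_of_eq_one D.haiN hy
      have := rel_image D.ha D.hb ψ' (D.hrel r hr)
      rw [h1] at this
      exact this
    rw [hG, hR] at h2
    simp at h2

/-- with an automorphism `θ` inverting `a`, every automorphism is inner or becomes inner after
multiplication with `θ` -/
theorem inner_or (θ : MulAut H) (hθ : θ ⟨D.a, D.ha⟩ = (⟨D.a, D.ha⟩ : H)⁻¹) (ψ : MulAut H) :
    ψ ∈ Cfsg.Inn H ∨ θ * ψ ∈ Cfsg.Inn H := by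
  obtain ⟨g, hg | hg⟩ := D.conj_cases ψ
  · left
    have h1 : (MulAut.conj g⁻¹ * ψ) ⟨D.a, D.ha⟩ = ⟨D.a, D.ha⟩ := by
      rw [MulAut.mul_apply, hg, MulAut.conj_apply]; group
    obtain ⟨g', hg'⟩ := D.inner_of_fix _ h1
    refine ⟨g * g', ?_⟩
    have : ψ = MulAut.conj g * (MulAut.conj g⁻¹ * ψ) := by
      rw [← mul_assoc, ← map_mul, mul_inv_cancel, map_one, one_mul]
    rw [this, hg', ← map_mul]
  · right
    have h1 : (θ * (MulAut.conj g⁻¹ * ψ)) ⟨D.a, D.ha⟩ = ⟨D.a, D.ha⟩ := by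
      rw [MulAut.mul_apply, MulAut.mul_apply, hg, MulAut.conj_apply]
      have : g⁻¹ * (g * (⟨D.a, D.ha⟩ : H)⁻¹ * g⁻¹) * g⁻¹⁻¹ = (⟨D.a, D.ha⟩ : H)⁻¹ := by group
      rw [this, map_inv, hθ, inv_inv]
    obtain ⟨g', hg'⟩ := D.inner_of_fix _ h1
    have hN : (Cfsg.Inn H).Normal := Cfsg.innNormal H
    -- θ ψ = (θ conj(g) θ⁻¹) (θ conj(g⁻¹) ψ)
    have e : θ * ψ = (θ * MulAut.conj g * θ⁻¹) * (θ * (MulAut.conj g⁻¹ * ψ)) := by
      have : MulAut.conj g * (MulAut.conj g⁻¹ * ψ) = ψ := by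
        rw [← mul_assoc, ← map_mul, mul_inv_cancel, map_one, one_mul]
      calc θ * ψ = θ * (MulAut.conj g * (MulAut.conj g⁻¹ * ψ)) := by rw [this]
        _ = _ := by group
    rw [e]
    apply Subgroup.mul_mem
    · exact hN.conj_mem _ ⟨g, rfl⟩ θ
    · rw [hg']; exact ⟨g', rfl⟩

end AutData

end Cfsg.Agent.Lib.Helper3.OutAut
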