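import Mathlib
import Cfsg.Agent.Lib.Helper3.Golay.M24Order
import Cfsg.Agent.Lib.Helper3.Golay.Dodecad2
import Cfsg.Agent.Lib.Helper3.Golay.NPerm

set_option autoImplicit false

/-! Generation certificates: a subgroup `K` of a point stabilizer of the chain of `M24` (or of the
stabilizer of the base dodecad) that contains transversal elements for all the lower levels of
the chain is the whole stabilizer. -/

namespace Cfsg.Agent.Lib.Helper3.OutAut

open Cfsg Cfsg.Agent.Lib.Helper3.Golay
open scoped Pointwise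

section generic

variable {Γ : Type*} [Group Γ] {X : Type*} [MulAction Γ X]

theorem le_of_trans (G K : Subgroup Γ) (β : ℕ → X) (F : ℕ → Subgroup Γ)
    (hFs : ∀ k, F (k + 1) = F k ⊓ MulAction.stabilizer Γ (β k)) (k0 n : ℕ) (hKG : K ≤ G)
    (hT : G ⊓ F n = ⊥)
    (htr : ∀ k, k0 ≤ k → k < n → ∀ g ∈ G ⊓ F k, ∃ u ∈ K ⊓ F k, u • β k = g • β k) :
    ∀ m, m ≤ n - k0 → G ⊓ F (n - m) ≤ K := by
  intro m
  induction m with
  | zero =>
    intro _
    rw [Nat.sub_zero, hT]
    exact bot_le
  | succ m ih =>
    intro hm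
    have ih' := ih (by omega)
    intro g hg
    have hk0 : k0 ≤ n - (m + 1) := by omega
    have hkn : n - (m + 1) < n := by omega
    obtain ⟨u, hu, hug⟩ := htr _ hk0 hkn g hg
    have h1 : u⁻¹ * g ∈ G ⊓ F (n - m) := by
      have e : n - m = (n - (m + 1)) + 1 := by omega
      rw [e, hFs]
      refine Subgroup.mem_inf.mpr ⟨Subgroup.mul_mem _ (Subgroup.inv_mem _ (hKG hu.1)) hg.1, ?_⟩
      refine Subgroup.mem_inf.mpr ⟨Subgroup.mul_mem _ (Subgroup.inv_mem _ hu.2) hg.2, ?_⟩
      rw [MulAction.mem_stabilizer_iff, mul_smul, ← hug, inv_smul_smul]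
    have h2 := Subgroup.mul_mem _ hu.1 (ih' h1)
    rwa [mul_inv_cancel_left] at h2

end generic

theorem baseL_lt (j : ℕ) : baseL.getD j 0 < 24 := base_lt j

/-- a subgroup of `M24` containing transversals for the levels `k0, …, 6` of the chain contains
the stabilizer of the first `k0` base points -/
theorem M24_fixB_le {K : Subgroup (Equiv.Perm GolayPt)} (hK : K ≤ M24) {L : List (List ℕ)}
    (hL : Sound K L) (k0 : ℕ) (hk0 : k0 ≤ 7)
    (hc : allBelow 7 (fun k => Nat.blt k k0 || transOK L baseL k (Dmask k)) = true) :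
    M24 ⊓ fixB k0 ≤ K := by
  have key := le_of_trans M24 K β fixB (fun _ => rfl) k0 7 hK hT (by
    intro k hk0' hk g hg
    have hδ := hU k hk g hg
    have h1 := (allBelow_iff _ _).mp hc k hk
    have h2 : Nat.blt k k0 = false := by
      rw [← Bool.not_eq_true]
      intro h
      have : k < k0 := by simpa [Nat.blt_eq] using h
      omega
    rw [h2, Bool.false_or] at h1
    obtain ⟨σ, hσ, hfix, hmap⟩ := transOK_sound hL baseL_lt h1 hδ
    refine ⟨σ, Subgroup.mem_inf.mpr ⟨hσ, mem_fixB.mpr hfix⟩, ?_⟩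
    rw [Equiv.Perm.smul_def]
    exact hmap) (7 - k0) le_rfl
  rwa [show 7 - (7 - k0) = k0 by omega] at key

/-- a subgroup of the stabilizer of the base dodecad containing transversals for the levels
`k0, …, 4` contains the stabilizer of the first `k0` base points of the dodecad -/
theorem H12_fix_le {K : Subgroup (Equiv.Perm GolayPt)} (hK : K ≤ H12) {L : List (List ℕ)}
    (hL : Sound K L) (k0 : ℕ) (hk0 : k0 ≤ 5)
    (hc : allBelow 5 (fun k => Nat.blt k k0 || transOK L bs2 k (D2L.getD k 0)) = true) :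
    H12 ⊓ fixSeq (Equiv.Perm GolayPt) b2 k0 ≤ K := by
  have key := le_of_trans H12 K b2 (fixSeq (Equiv.Perm GolayPt) b2) (fun _ => rfl) k0 5 hK
    H12_fix5 (by
    intro k hk0' hk g hg
    have hδ : g • b2 k ∈ bitSet (D2L.getD k 0) := by
      rw [mem_bitSet]
      apply D2_aux k hk
      · rw [← mem_bitSet, mem_H12_smul hg.1]; exact b2_mem k hk
      · intro j hj h
        have h1 := mem_fixSeq.mp hg.2 j hj
        rw [← h1] at h
        have := b2_injective k hk j (by omega) (smul_left_cancel g h)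
        omega
    have h1 := (allBelow_iff _ _).mp hc k hk
    have h2 : Nat.blt k k0 = false := by
      rw [← Bool.not_eq_true]
      intro h
      have : k < k0 := by simpa [Nat.blt_eq] using h
      omega
    rw [h2, Bool.false_or] at h1
    obtain ⟨σ, hσ, hfix, hmap⟩ := transOK_sound hL bs2_lt h1 hδ
    exact ⟨σ, Subgroup.mem_inf.mpr ⟨hσ, mem_fixSeq.mpr hfix⟩, hmap⟩) (5 - k0) le_rfl
  rwa [show 5 - (5 - k0) = k0 by omega] at key

/-- soundness of the tables computed from two generators -/
theorem sound_pair {a b : Equiv.Perm GolayPt} {aT bT : List ℕ} (ha : HasTbl a aT)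
    (hb : HasTbl b bT) (prog : List Ins) :
    Sound (Subgroup.closure {a, b}) (run prog [aT, bT] ++ [idT]) := by
  have h0 : Sound (Subgroup.closure {a, b}) [aT, bT] := by
    intro T hT
    simp only [List.mem_cons, List.not_mem_nil, or_false] at hT
    rcases hT with rfl | rfl
    · exact ⟨a, Subgroup.subset_closure (by simp), ha⟩
    · exact ⟨b, Subgroup.subset_closure (by simp), hb⟩
  have h1 := Sound.run prog _ h0
  intro T hT
  rw [List.mem_append, List.mem_singleton] at hT
  rcases hT with hT | rfl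
  · exact h1 T hT
  · exact ⟨1, Subgroup.one_mem _, HasTbl.one⟩

theorem closure_pair_le {H : Subgroup (Equiv.Perm GolayPt)} {a b : Equiv.Perm GolayPt}
    (ha : a ∈ H) (hb : b ∈ H) : Subgroup.closure {a, b} ≤ H := by
  rw [Subgroup.closure_le]
  intro x hx
  simp only [Set.mem_insert_iff, Set.mem_singleton_iff] at hx
  rcases hx with rfl | rfl
  · exact ha
  · exact hb

theorem factorization_eq_one {n p m : ℕ} (hp : p.Prime) (hn : n = p * m) (hm : ¬ p ∣ m)
    (hm0 : m ≠ 0) : n.factorization p = 1 := by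
  rw [hn, Nat.factorization_mul hp.ne_zero hm0, Finsupp.add_apply, hp.factorization_self,
    Nat.factorization_eq_zero_of_not_dvd hm]

end Cfsg.Agent.Lib.Helper3.OutAut
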