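import Mathlib
import Cfsg.Prelude.Def_Spor_Mathieu
import Cfsg.Agent.Lib.Helper3.OutAut.Core
import Cfsg.Agent.Lib.Helper3.OutAut.Gen
import Cfsg.Agent.Lib.Helper3.Golay.Dodecad3

set_option autoImplicit false

/-! The groups `M12` and `M11` of the definitions as stabilizers of the base dodecad, and the test
for codes of elements of these groups. -/

namespace Cfsg.Agent.Lib.Helper3.OutAut

open Cfsg Cfsg.Agent.Lib.Helper3.Golay
open scoped Pointwise

theorem squareDodecad_eq : Cfsg.Spor.squareDodecad = bitSet d0 := by decide +kernel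

theorem pt0 : pt 0 = (some 0 : GolayPt) := by decide +kernel

theorem M12_eq : Cfsg.Spor.M12 = H12 := by
  unfold Cfsg.Spor.M12 H12
  rw [squareDodecad_eq]

theorem M11_eq : Cfsg.Spor.M11 = H12 ⊓ MulAction.stabilizer (Equiv.Perm GolayPt) (pt 0) := by
  unfold Cfsg.Spor.M11
  rw [M12_eq, pt0]

theorem M11_eq' : Cfsg.Spor.M11 = H12 ⊓ fixSeq (Equiv.Perm GolayPt) b2 1 := by
  rw [M11_eq]
  congr 1
  show _ = ⊤ ⊓ _
  rw [top_inf_eq]
  rfl

theorem card_M12 : Nat.card ↥Cfsg.Spor.M12 = 95040 := by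
  rw [M12_eq]; exact card_stab_dodecad d0_mem

theorem card_M11 : Nat.card ↥Cfsg.Spor.M11 = 7920 := by
  rw [M11_eq]
  exact card_stab_dodecad_point d0_mem (by rw [mem_bitSet]; decide +kernel)

/-- the code preserves the base dodecad -/
def inD (n : ℕ) : Bool := allBelow 24 (fun i => !(d0.testBit i) || d0.testBit (lookN n i))

theorem inD_of_mem {y : Equiv.Perm GolayPt} (hy : y ∈ H12) {n : ℕ} (hn : HasN y n) :
    inD n = true := by
  unfold inD
  rw [allBelow_iff]
  intro i hi
  by_cases h : d0.testBit i = true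
  · rw [h, Bool.not_true, Bool.false_or, ← hn i hi, ← mem_bitSet]
    have h1 : pt i ∈ bitSet d0 := by rw [mem_bitSet, idx_pt hi]; exact h
    have := (mem_H12_smul hy (pt i)).mpr h1
    rwa [Equiv.Perm.smul_def] at this
  · rw [Bool.not_eq_true] at h
    rw [h]; rfl

theorem ne_one_of_tbl {g : Equiv.Perm GolayPt} {T : List ℕ} (h : HasTbl g T) {i : ℕ} (hi : i < 24)
    (hne : T.getD i 0 ≠ i) : g ≠ 1 := by
  intro h1
  have := h.apply hi
  rw [h1, Equiv.Perm.one_apply] at this
  have := congrArg idx this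
  rw [idx_pt hi, idx_pt (h.lt hi)] at this
  exact hne this.symm

theorem fixes_pt {g : Equiv.Perm GolayPt} {T : List ℕ} (h : HasTbl g T) {i : ℕ} (hi : i < 24)
    (hfix : T.getD i 0 = i) : g (pt i) = pt i := by
  rw [h.apply hi, hfix]

end Cfsg.Agent.Lib.Helper3.OutAut
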