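import Mathlib
import Cfsg.Agent.Lib.Helper3.OutAut.Core

set_option autoImplicit false

/-! The image of the fourth power of an element of order 8 under an automorphism of a subgroup of
`M24` has a fixed point. -/

namespace Cfsg.Agent.Lib.Helper3.OutAut

open Cfsg Cfsg.Agent.Lib.Helper3.Golay

theorem card_golayPt : Fintype.card GolayPt = 24 := by
  unfold GolayPt
  rw [Fintype.card_option, ZMod.card]

theorem fix_of_pow_four {H : Subgroup (Equiv.Perm GolayPt)} (hH : H ≤ M24)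
    {b x : Equiv.Perm GolayPt} (hb : b ∈ H) (hx : x ∈ H) (hbx : b = x ^ 4) (hx8 : x ^ 8 = 1)
    (ψ : MulAut H) : ∃ q, ((ψ ⟨b, hb⟩ : H) : Equiv.Perm GolayPt) q = q := by
  have e1 : (⟨b, hb⟩ : H) = ⟨x, hx⟩ ^ 4 := Subtype.ext (by rw [Subgroup.coe_pow]; exact hbx)
  have e2 : (⟨x, hx⟩ : H) ^ 8 = 1 := Subtype.ext (by rw [Subgroup.coe_pow]; exact hx8)
  have h8 : ((ψ ⟨x, hx⟩ : H) : Equiv.Perm GolayPt) ^ 8 = 1 := by
    rw [← Subgroup.coe_pow, ← map_pow, e2, map_one]; rfl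
  have hs := sign_eq_one_of_mem_M24 (hH (ψ ⟨x, hx⟩).2)
  obtain ⟨q, hq⟩ := exists_fixed_pow_four card_golayPt _ h8 hs
  refine ⟨q, ?_⟩
  rw [e1, map_pow, Subgroup.coe_pow]
  exact hq

end Cfsg.Agent.Lib.Helper3.OutAut
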