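import Mathlib
import Cfsg.Prelude.Def_Spor_Mathieu
import Cfsg.Agent.Lib.Helper3.OutAut.Core
import Cfsg.Agent.Lib.Helper3.OutAut.Gen
import Cfsg.Agent.Lib.Helper3.OutAut.Fix

set_option autoImplicit false

/-! The outer automorphism group of `M24` is trivial. -/

namespace Cfsg.Agent.Lib.Helper3.OutM24

open Cfsg Cfsg.Agent.Lib.Helper3.Golay Cfsg.Agent.Lib.Helper3.OutAut
open scoped Pointwise

def aT : List ℕ := [1, 2, 3, 4, 5, 6, 7, 8, 9, 10, 11, 12, 13, 14, 15, 16, 17, 18, 19, 20, 21, 22, 0, 23]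
def aiT : List ℕ := [22, 0, 1, 2, 3, 4, 5, 6, 7, 8, 9, 10, 11, 12, 13, 14, 15, 16, 17, 18, 19, 20, 21, 23]
def bT : List ℕ := [12, 1, 9, 3, 20, 7, 19, 5, 10, 2, 8, 13, 0, 11, 14, 15, 16, 17, 18, 6, 4, 21, 23, 22]
def cT : List ℕ := [0, 2, 4, 6, 8, 10, 12, 14, 16, 18, 20, 22, 1, 3, 5, 7, 9, 11, 13, 15, 17, 19, 21, 23]
def ciT : List ℕ := [0, 12, 1, 13, 2, 14, 3, 15, 4, 16, 5, 17, 6, 18, 7, 19, 8, 20, 9, 21, 10, 22, 11, 23]
def xT : List ℕ := [4, 14, 13, 15, 8, 0, 22, 12, 7, 11, 5, 6, 20, 19, 1, 18, 16, 3, 17, 23, 10, 21, 2, 9]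
def prog : List Ins := [
  .mul 0 1, .mul 0 2, .mul 1 2, .mul 0 3, .mul 0 4, .mul 0 5, .mul 1 5, .mul 0 6,
  .mul 1 6, .mul 0 7, .mul 0 8, .mul 0 9, .mul 0 11, .mul 1 11, .mul 1 12, .mul 0 13,
  .mul 0 14, .mul 1 14, .mul 0 15, .mul 0 17, .mul 1 18, .mul 0 21, .mul 0 0, .mul 1 24,
  .mul 1 25, .mul 1 26, .mul 0 27, .mul 0 28, .mul 0 29, .mul 1 30, .mul 0 31, .mul 0 32,
  .inv 10, .mul 34 33, .mul 35 35, .mul 35 36, .mul 35 37, .mul 1 0, .mul 0 39, .mul 1 40,
  .mul 1 41, .inv 2, .mul 43 42, .mul 44 35, .mul 44 36, .mul 35 45, .mul 44 45, .mul 44 37,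
  .mul 35 46, .mul 44 46, .mul 35 47, .mul 44 47, .mul 44 48, .mul 44 38, .mul 35 49, .mul 44 50,
  .mul 35 51, .mul 44 53, .mul 44 54, .mul 35 57, .mul 1 1, .mul 1 62, .mul 1 63, .mul 1 64,
  .mul 1 65, .mul 0 66, .mul 1 67, .mul 0 68, .mul 1 69, .mul 0 70, .mul 1 71, .mul 0 72,
  .inv 4, .mul 74 73, .inv 44, .mul 76 75, .mul 77 77, .mul 77 78, .mul 77 79, .mul 1 39,
  .mul 0 81, .mul 0 82, .mul 1 83, .mul 1 84, .mul 0 85, .mul 1 86, .mul 0 87, .mul 1 88,
  .mul 0 89, .mul 0 90, .mul 1 91, .inv 9, .mul 93 92, .inv 54, .mul 95 94, .mul 96 77,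
  .mul 77 96, .mul 96 96, .mul 96 78, .mul 77 97, .mul 96 97, .mul 77 98, .mul 96 99, .mul 77 100,
  .mul 96 100, .mul 96 101, .mul 77 103, .mul 96 106, .mul 77 107, .mul 96 109, .mul 77 110, .mul 1 8,
  .mul 1 113, .mul 0 114, .mul 0 115, .mul 34 116, .inv 55, .mul 118 117, .inv 109, .mul 120 119,
  .mul 121 121, .mul 121 122, .mul 121 123, .mul 0 24, .mul 0 125, .mul 0 126, .mul 1 127, .mul 1 128,
  .mul 95 129, .mul 130 121, .mul 121 130, .mul 130 130, .mul 121 131, .mul 130 131, .mul 130 132, .mul 121 133,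
  .mul 130 133, .mul 130 123, .mul 121 135, .mul 130 136, .mul 130 138, .mul 121 140, .mul 130 140, .mul 121 142,
  .mul 1 3, .mul 1 146, .mul 1 147, .mul 0 148, .mul 1 149, .mul 1 150, .mul 1 151, .mul 1 152,
  .mul 0 153, .inv 7, .mul 155 154, .inv 121, .mul 157 156, .mul 158 158, .mul 0 63, .mul 0 160,
  .mul 0 161, .mul 1 162, .mul 0 163, .mul 1 164, .mul 0 165, .mul 1 166, .mul 0 167, .mul 155 168,
  .inv 38, .mul 170 169, .inv 105, .mul 172 171, .inv 124, .mul 174 173, .mul 175 158, .mul 158 175,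
  .mul 175 175, .mul 158 176, .mul 175 177, .mul 158 178, .mul 158 179, .mul 0 25, .mul 0 183, .mul 1 184,
  .mul 0 185, .mul 0 186, .mul 1 187, .mul 0 188, .inv 11, .mul 190 189, .inv 52, .mul 192 191,
  .inv 100, .mul 194 193, .inv 135, .mul 196 195, .mul 197 158, .mul 197 175, .mul 158 197, .mul 197 159,
  .mul 197 176, .mul 158 198, .mul 158 199, .mul 175 203, .mul 0 40, .mul 1 206, .inv 3, .mul 208 207,
  .mul 76 209, .inv 80, .mul 211 210, .inv 131, .mul 213 212, .inv 200, .mul 215 214, .mul 216 216,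
  .mul 1 82, .mul 0 218, .mul 1 219, .mul 1 220, .mul 1 221, .mul 1 222, .mul 1 223, .mul 1 224,
  .mul 0 225, .mul 1 226, .mul 208 227, .mul 192 228, .mul 120 229, .inv 139, .mul 231 230, .inv 159,
  .mul 233 232, .inv 217, .mul 235 234, .mul 0 10, .mul 74 237, .inv 49, .mul 239 238, .inv 97,
  .mul 241 240, .inv 132, .mul 243 242, .inv 177, .mul 245 244, .mul 246 236, .mul 0 146, .mul 0 248,
  .mul 1 249, .mul 0 250, .mul 0 251, .mul 0 252, .mul 1 253, .mul 0 254, .mul 0 255, .mul 1 256,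
  .inv 20, .mul 258 257, .inv 48, .mul 260 259, .inv 103, .mul 262 261, .inv 143, .mul 264 263,
  .inv 181, .mul 266 265, .mul 235 267, .mul 268 236, .mul 268 246, .mul 268 247, .mul 1 125, .mul 0 272,
  .mul 0 273, .mul 1 274, .mul 208 275, .inv 61, .mul 277 276, .inv 96, .mul 279 278, .mul 213 280,
  .inv 216, .mul 282 281, .mul 283 236, .mul 283 246, .mul 283 268, .mul 283 247, .mul 283 269, .mul 283 270,
  .mul 283 271]
def rels : List (List ℕ × ℕ) := [([0, 0, 1], 7), ([0, 0, 0, 1], 6), ([0, 1, 0, 0, 1, 0, 0, 0, 0, 1], 11)]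


theorem cert_tbl : tblOK 0xffffff aT = true ∧ tblOK 0xffffff bT = true ∧ tblOK 0xffffff cT = true ∧
    tblOK 0xffffff xT = true ∧ okInv aT aiT = true ∧ okInv cT ciT = true := by decide +kernel

theorem cert_gen : allBelow 7 (fun k => Nat.blt k 0 ||
    transOK (run prog [aT, bT] ++ [idT]) baseL k (Dmask k)) = true := by decide +kernel

theorem cert_misc : relOKN (encL aT) (encL bT) ([0], 23) = true ∧
    relOKN (encL aT) (encL bT) ([1], 2) = true ∧
    compN (compN (encL cT) (encL aT)) (encL ciT) = compN (encL aT) (encL aT) ∧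
    rels.all (relOKN (encL aT) (encL bT)) = true ∧
    relOKN (encL xT) (encL bT) ([0], 8) = true ∧
    compN (compN (encL xT) (encL xT)) (compN (encL xT) (encL xT)) = encL bT ∧
    aT.getD 0 0 ≠ 0 ∧ bT.getD 0 0 ≠ 0 := by
  decide +kernel

theorem cert_k : ∀ m, m < 23 → m ≠ 0 → ∃ j < 23, 2 ^ j % 23 = m ∨ (2 ^ j + m) % 23 = 0 := by
  decide

set_option maxRecDepth 100000 in
theorem cert_fp : T24.all (fun n => !(true) || !(rels.all (relOKN (encL aT) n)) ||
    inOrbitN (encL aT) (encL aiT) (encL bT) 23 n) = true := by decide +kernel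

set_option maxRecDepth 100000 in
theorem cert_fp' : T24.all (fun n => !(true) || !(rels.all (relOKN (encL aiT) n))) = true := by
  decide +kernel

theorem ne_one_of_tbl {g : Equiv.Perm GolayPt} {T : List ℕ} (h : HasTbl g T) {i : ℕ} (hi : i < 24)
    (hne : T.getD i 0 ≠ i) : g ≠ 1 := by
  intro h1
  have := h.apply hi
  rw [h1, Equiv.Perm.one_apply] at this
  have := congrArg idx this
  rw [idx_pt hi, idx_pt (h.lt hi)] at this
  exact hne this.symm

theorem all_inner (ψ : MulAut ↥Cfsg.M24) : ∃ g : ↥Cfsg.M24, ψ = MulAut.conj g := by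
  obtain ⟨h1, h2, h3, hx, h4, h5⟩ := cert_tbl
  obtain ⟨m1, m2, m3, m4, m5, m6, m8, m9⟩ := cert_misc
  obtain ⟨a, haM, haT⟩ := tblOK_univ_sound h1
  obtain ⟨b, hbM, hbT⟩ := tblOK_univ_sound h2
  obtain ⟨c, hcM, hcT⟩ := tblOK_univ_sound h3
  obtain ⟨x, hxM, hxT⟩ := tblOK_univ_sound hx
  have haiT : HasTbl a⁻¹ aiT := haT.inv h4
  have hciT : HasTbl c⁻¹ ciT := hcT.inv h5
  have ha1 : a ≠ 1 := ne_one_of_tbl haT (by norm_num) m8
  have hb1 : b ≠ 1 := ne_one_of_tbl hbT (by norm_num) m9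
  have : Fact (Nat.Prime 23) := ⟨by norm_num⟩
  have hap : a ^ 23 = 1 := by
    have := eq_one_of_relOKN haT.hasN hbT.hasN m1
    simpa [evalW] using this
  have hb2 : b ^ 2 = 1 := by
    have := eq_one_of_relOKN haT.hasN hbT.hasN m2
    simpa [evalW] using this
  have hx8 : x ^ 8 = 1 := by
    have := eq_one_of_relOKN hxT.hasN hbT.hasN m5
    simpa [evalW] using this
  have hbx : b = x ^ 4 := by
    apply HasN.ext hbT.hasN
    rw [← m6]
    have e : x ^ 4 = (x * x) * (x * x) := by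
      rw [show (4 : ℕ) = 2 + 2 from rfl, pow_add, pow_two]
    rw [e]
    exact (hxT.hasN.mul hxT.hasN).mul (hxT.hasN.mul hxT.hasN)
  let D : AutData Cfsg.M24 :=
    { p := 23
      k := 2
      hp := by norm_num
      a := a
      b := b
      c := c
      aN := encL aT
      aiN := encL aiT
      bN := encL bT
      ha := haM
      hb := hbM
      hc := hcM
      hH := le_rfl
      haN := haT.hasN
      haiN := haiT.hasN
      hbN := hbT.hasN
      hgen := by
        have := M24_fixB_le (closure_pair_le haM hbM) (sound_pair haT hbT prog) 0 (by norm_num)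
          cert_gen
        simpa [fixB] using this
      hfac := factorization_eq_one (by norm_num)
        (card_M24.trans (by norm_num : 244823040 = 23 * 10644480)) (by norm_num) (by norm_num)
      hord := orderOf_eq_prime hap ha1
      hb2 := orderOf_eq_prime hb2 hb1
      hca := by
        apply HasN.ext ((hcT.hasN.mul haT.hasN).mul hciT.hasN)
        rw [m3, pow_two]
        exact haT.hasN.mul haT.hasN
      hk := fun m hm hm0 => by
        obtain ⟨j, -, hj⟩ := cert_k m hm hm0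
        exact ⟨j, hj⟩
      rels := rels
      hrel := fun r hr => eq_one_of_relOKN haT.hasN hbT.hasN (List.all_eq_true.mp m4 r hr)
      inG := fun _ => true
      hinG := fun _ _ _ _ => rfl
      hfix := fun ψ => fix_of_pow_four le_rfl hbM hxM hbx hx8 ψ
      cert := cert_fp }
  exact D.inner cert_fp' ψ

theorem card_out : Nat.card (Cfsg.Out ↥Cfsg.M24) = 1 := card_out_eq_one all_inner

end Cfsg.Agent.Lib.Helper3.OutM24
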