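import Mathlib
import Cfsg.Prelude.Def_Spor_Mathieu
import Cfsg.Agent.Lib.Helper3.OutAut.Core
import Cfsg.Agent.Lib.Helper3.OutAut.Gen
import Cfsg.Agent.Lib.Helper3.OutAut.Dod

set_option autoImplicit false

/-! The outer automorphism group of `M22` has order 2. -/

namespace Cfsg.Agent.Lib.Helper3.OutM22

open Cfsg Cfsg.Agent.Lib.Helper3.Golay Cfsg.Agent.Lib.Helper3.OutAut
open scoped Pointwise

def aT : List ℕ := [0, 2, 4, 6, 8, 10, 12, 14, 16, 18, 20, 22, 1, 3, 5, 7, 9, 11, 13, 15, 17, 19, 21, 23]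
def aiT : List ℕ := [0, 12, 1, 13, 2, 14, 3, 15, 4, 16, 5, 17, 6, 18, 7, 19, 8, 20, 9, 21, 10, 22, 11, 23]
def bT : List ℕ := [0, 1, 2, 3, 6, 5, 4, 22, 20, 12, 11, 10, 9, 19, 14, 18, 21, 17, 15, 13, 8, 16, 7, 23]
def cT : List ℕ := [0, 1, 8, 4, 18, 5, 9, 22, 6, 16, 17, 10, 3, 12, 15, 20, 2, 7, 13, 14, 21, 19, 11, 23]
def ciT : List ℕ := [0, 1, 16, 12, 3, 5, 8, 17, 2, 6, 11, 22, 13, 18, 19, 14, 9, 10, 4, 21, 15, 20, 7, 23]
def prog : List Ins := [
  .mul 0 0, .mul 0 2, .mul 1 2, .mul 0 3, .mul 1 3, .mul 0 4, .mul 0 5, .mul 1 5,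
  .mul 0 6, .mul 0 8, .mul 0 9, .mul 0 10, .mul 0 11, .mul 1 11, .mul 0 13, .mul 1 13,
  .mul 0 14, .mul 0 15, .mul 0 19, .mul 0 20, .mul 1 4, .mul 1 22, .mul 0 23, .mul 0 24,
  .mul 0 25, .mul 1 26, .mul 0 27, .mul 0 28, .inv 3, .mul 30 29, .mul 1 0, .mul 0 32,
  .mul 1 33, .mul 1 34, .inv 2, .mul 36 35, .mul 37 31, .mul 31 37, .mul 31 38, .mul 31 39,
  .mul 37 40, .mul 31 42, .mul 1 1, .mul 1 44, .mul 1 45, .mul 0 46, .mul 1 47, .mul 0 48,
  .mul 0 49, .mul 0 50, .mul 1 51, .mul 0 52, .mul 1 53, .inv 14, .mul 55 54, .mul 56 31,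
  .mul 56 37, .mul 37 56, .mul 56 56, .mul 56 38, .mul 31 57, .mul 56 39, .mul 31 58, .mul 31 59,
  .mul 56 59, .mul 56 64, .mul 1 46, .mul 1 68, .mul 0 69, .mul 1 70, .mul 0 71, .mul 1 72,
  .mul 0 73, .mul 1 74, .mul 0 75, .inv 11, .mul 77 76, .inv 60, .mul 79 78, .mul 80 80,
  .mul 1 32, .mul 0 82, .mul 0 83, .mul 1 84, .mul 1 85, .mul 0 86, .mul 1 87, .mul 0 88,
  .mul 1 89, .mul 0 90, .mul 0 91, .mul 1 92, .mul 36 93, .inv 39, .mul 95 94, .mul 96 80,
  .mul 0 1, .mul 0 98, .mul 0 99, .mul 1 100, .mul 1 101, .mul 1 102, .mul 0 103, .mul 0 104,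
  .inv 13, .mul 106 105, .mul 107 80, .mul 107 96, .mul 107 81, .mul 107 97, .mul 80 108, .mul 96 108,
  .mul 96 109, .mul 96 110, .mul 80 111, .mul 80 112, .mul 96 112, .mul 107 112, .mul 80 113, .mul 96 113,
  .mul 80 114, .mul 1 23, .mul 1 123, .mul 0 124, .mul 1 125, .mul 0 126, .mul 1 127, .mul 1 128,
  .mul 77 129, .inv 66, .mul 131 130, .inv 80, .mul 133 132, .mul 134 134, .mul 0 45, .mul 0 136,
  .mul 0 137, .mul 1 138, .mul 0 139, .mul 1 140, .mul 0 141, .mul 1 142, .mul 0 143, .inv 6,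
  .mul 145 144, .inv 43, .mul 147 146, .inv 119, .mul 149 148, .inv 134, .mul 151 150, .mul 1 99,
  .mul 1 153, .mul 0 154, .mul 1 155, .mul 0 156, .mul 0 157, .mul 1 158, .mul 0 159, .mul 1 160,
  .mul 1 161, .mul 145 162, .inv 38, .mul 164 163, .mul 149 165, .inv 135, .mul 167 166, .mul 168 152,
  .mul 1 137, .mul 0 170, .mul 0 171, .mul 0 172, .mul 0 173, .mul 0 174, .mul 1 175, .mul 0 176,
  .mul 0 177, .mul 106 178, .mul 164 179, .mul 180 152, .mul 180 168, .mul 180 169, .mul 0 7, .mul 1 184,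
  .mul 0 185, .mul 0 186, .mul 1 187, .mul 0 188, .inv 7, .mul 190 189, .inv 59, .mul 192 191,
  .inv 96, .mul 194 193, .mul 195 152, .mul 195 168, .mul 195 180, .mul 195 169, .mul 195 181, .mul 195 182,
  .mul 195 183]
def rels : List (List ℕ × ℕ) := [([0, 1, 0, 1, 0, 0, 1], 3), ([0, 1, 0, 0, 0, 1, 0, 0, 1], 7)]


theorem cert_tbl : tblOK 0xffffff aT = true ∧ tblOK 0xffffff bT = true ∧ tblOK 0xffffff cT = true ∧
    okInv aT aiT = true ∧ okInv cT ciT = true := by decide +kernel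

theorem cert_gen : allBelow 7 (fun k => Nat.blt k 2 ||
    transOK (run prog [aT, bT] ++ [idT]) baseL k (Dmask k)) = true := by decide +kernel

theorem cert_misc : relOKN (encL aT) (encL bT) ([0], 11) = true ∧
    relOKN (encL aT) (encL bT) ([1], 2) = true ∧
    compN (compN (encL cT) (encL aT)) (encL ciT) = compN (compN (encL aT) (encL aT)) (encL aT) ∧
    rels.all (relOKN (encL aT) (encL bT)) = true ∧
    aT.getD 0 0 = 0 ∧ bT.getD 0 0 = 0 ∧ cT.getD 0 0 = 0 ∧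
    aT.getD 23 0 = 23 ∧ bT.getD 23 0 = 23 ∧ cT.getD 23 0 = 23 ∧
    aT.getD 1 0 ≠ 1 ∧ bT.getD 4 0 ≠ 4 ∧
    compN (compN (encL piL) (encL aT)) (encL piL) = encL aiT := by
  decide +kernel

theorem cert_k : ∀ m, m < 11 → m ≠ 0 → ∃ j < 11, 3 ^ j % 11 = m ∨ (3 ^ j + m) % 11 = 0 := by
  decide

/-- membership test for the codes -/
def inG (n : ℕ) : Bool := Nat.beq (lookN n 23) 23 && Nat.beq (lookN n 0) 0

set_option maxRecDepth 100000 in
theorem cert_fp : T24.all (fun n => !(inG n) || !(rels.all (relOKN (encL aT) n)) ||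
    inOrbitN (encL aT) (encL aiT) (encL bT) 11 n) = true := by decide +kernel

theorem pt23 : pt 23 = (none : GolayPt) := rfl

theorem mem_M22 {g : Equiv.Perm GolayPt} :
    g ∈ Cfsg.Spor.M22 ↔ g ∈ M24 ∧ g (pt 23) = pt 23 ∧ g (pt 0) = pt 0 := by
  unfold Cfsg.Spor.M22 Cfsg.Spor.M23
  rw [Subgroup.mem_inf, Subgroup.mem_inf, pt23, pt0]
  constructor
  · rintro ⟨⟨h1, h2⟩, h3⟩; exact ⟨h1, h2, h3⟩
  · rintro ⟨h1, h2, h3⟩; exact ⟨⟨h1, h2⟩, h3⟩

theorem β0 : β 0 = pt 23 := rfl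
theorem β1 : β 1 = pt 0 := rfl
theorem β2 : β 2 = pt 1 := rfl

theorem M22_eq : Cfsg.Spor.M22 = M24 ⊓ fixB 2 := by
  ext g
  rw [mem_M22, Subgroup.mem_inf, mem_fixB]
  constructor
  · rintro ⟨h1, h2, h3⟩
    refine ⟨h1, fun j hj => ?_⟩
    interval_cases j
    · exact h2
    · exact h3
  · rintro ⟨h1, h2⟩
    exact ⟨h1, h2 0 (by norm_num), h2 1 (by norm_num)⟩

theorem card_M22 : Nat.card ↥Cfsg.Spor.M22 = 443520 := by
  rw [M22_eq, card_M24_inf_fixB (by norm_num : 2 ≤ 7)]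
  decide

theorem projInv_mem : projInv ∈ M24 := K3_le (Subgroup.subset_closure (by simp))

theorem projInv_23 : projInv (pt 23) = pt 0 := by
  rw [hasTbl_projInv.apply (by norm_num)]; rfl

theorem projInv_0 : projInv (pt 0) = pt 23 := by
  rw [hasTbl_projInv.apply (by norm_num)]; rfl

theorem projInv_inv_23 : projInv⁻¹ (pt 23) = pt 0 := by
  rw [Equiv.Perm.inv_eq_iff_eq, projInv_0]

theorem projInv_inv_0 : projInv⁻¹ (pt 0) = pt 23 := by
  rw [Equiv.Perm.inv_eq_iff_eq, projInv_23]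

theorem norm1 : ∀ g ∈ Cfsg.Spor.M22, projInv * g * projInv⁻¹ ∈ Cfsg.Spor.M22 := by
  intro g hg
  obtain ⟨h1, h2, h3⟩ := mem_M22.mp hg
  refine mem_M22.mpr ⟨M24.mul_mem (M24.mul_mem projInv_mem h1) (M24.inv_mem projInv_mem), ?_, ?_⟩
  · rw [Equiv.Perm.mul_apply, Equiv.Perm.mul_apply, projInv_inv_23, h3, projInv_0]
  · rw [Equiv.Perm.mul_apply, Equiv.Perm.mul_apply, projInv_inv_0, h2, projInv_23]

theorem norm2 : ∀ g ∈ Cfsg.Spor.M22, projInv⁻¹ * g * projInv ∈ Cfsg.Spor.M22 := by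
  intro g hg
  obtain ⟨h1, h2, h3⟩ := mem_M22.mp hg
  refine mem_M22.mpr ⟨M24.mul_mem (M24.mul_mem (M24.inv_mem projInv_mem) h1) projInv_mem, ?_, ?_⟩
  · rw [Equiv.Perm.mul_apply, Equiv.Perm.mul_apply, projInv_23, h3, projInv_inv_0]
  · rw [Equiv.Perm.mul_apply, Equiv.Perm.mul_apply, projInv_0, h2, projInv_inv_23]

/-- the automorphism induced by the projective inversion -/
def θ : MulAut ↥Cfsg.Spor.M22 := conjAut Cfsg.Spor.M22 projInv norm1 norm2

theorem Dmask3_aux : ∀ q : GolayPt, q ≠ pt 23 → q ≠ pt 0 → q ≠ pt 1 →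
    (Dmask 3).testBit (idx q) = true := by decide +kernel

theorem Dmask2_aux : ∀ q : GolayPt, q ≠ pt 23 → q ≠ pt 0 →
    (Dmask 2).testBit (idx q) = true := by decide +kernel

/-- the points fixed by the stabilizer of the first three base points -/
theorem fixed_of_fixB3 {q : GolayPt} (h : ∀ u ∈ M24 ⊓ fixB 3, u q = q) :
    q = pt 23 ∨ q = pt 0 ∨ q = pt 1 := by
  by_contra hne
  rw [not_or, not_or] at hne
  obtain ⟨n1, n2, n3⟩ := hne
  have hq : q ∈ bitSet (Dmask 3) := mem_bitSet.mpr (Dmask3_aux q n1 n2 n3)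
  obtain ⟨u, hu, huq⟩ := hL 3 (by norm_num) q hq
  have hu' : u ∈ M24 ⊓ fixB 3 := ⟨K3_le hu.1, hu.2⟩
  by_cases hq3 : q = β 3
  · have h4 : β 4 ∈ bitSet (Dmask 3) := by rw [mem_bitSet]; decide +kernel
    obtain ⟨v, hv, hvq⟩ := hL 3 (by norm_num) (β 4) h4
    have := h v ⟨K3_le hv.1, hv.2⟩
    rw [hq3] at this
    rw [Equiv.Perm.smul_def, this] at hvq
    exact absurd (β_injective (by norm_num) (by norm_num) hvq) (by norm_num)
  · have := h u⁻¹ (Subgroup.inv_mem _ hu')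
    rw [Equiv.Perm.inv_eq_iff_eq] at this
    rw [Equiv.Perm.smul_def] at huq
    have e : u (β 3) = u q := by rw [huq, ← this]
    exact hq3 (u.injective e).symm

theorem theta_not_inner : θ ∉ Cfsg.Inn ↥Cfsg.Spor.M22 := by
  rintro ⟨g, hg⟩
  -- `z = g⁻¹ * projInv` centralizes the group
  set z : Equiv.Perm GolayPt := (g : Equiv.Perm GolayPt)⁻¹ * projInv with hz
  have hcomm : ∀ h ∈ Cfsg.Spor.M22, z * h = h * z := by
    intro h hh
    have := congrArg (fun φ : MulAut ↥Cfsg.Spor.M22 => ((φ ⟨h, hh⟩ : ↥Cfsg.Spor.M22) : Equiv.Perm GolayPt)) hg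
    simp only [MulAut.conj_apply, Subgroup.coe_mul, Subgroup.coe_inv] at this
    have e : ((θ ⟨h, hh⟩ : ↥Cfsg.Spor.M22) : Equiv.Perm GolayPt) = projInv * h * projInv⁻¹ := rfl
    rw [e] at this
    -- g h g⁻¹ = τ h τ⁻¹
    rw [hz]
    have : (g : Equiv.Perm GolayPt)⁻¹ * projInv * h = h * ((g : Equiv.Perm GolayPt)⁻¹ * projInv) := by
      have e2 : projInv * h = (g : Equiv.Perm GolayPt) * h * (g : Equiv.Perm GolayPt)⁻¹ * projInv := by
        rw [this]; group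
      rw [mul_assoc, e2]; group
    exact this
  obtain ⟨hgM, hg23, hg0⟩ := mem_M22.mp g.2
  have hzM : z ∈ M24 := M24.mul_mem (M24.inv_mem hgM) projInv_mem
  have hz23 : z (pt 23) = pt 0 := by
    rw [hz, Equiv.Perm.mul_apply, projInv_23, Equiv.Perm.inv_eq_iff_eq, hg0]
  have hz0 : z (pt 0) = pt 23 := by
    rw [hz, Equiv.Perm.mul_apply, projInv_0, Equiv.Perm.inv_eq_iff_eq, hg23]
  have hle3 : M24 ⊓ fixB 3 ≤ Cfsg.Spor.M22 := by
    rw [M22_eq]
    intro u hu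
    refine ⟨hu.1, mem_fixB.mpr fun j hj => mem_fixB.mp hu.2 j (by omega)⟩
  -- `z` fixes the point 1
  have hz1 : z (pt 1) = pt 1 := by
    have hfix : ∀ u ∈ M24 ⊓ fixB 3, u (z (pt 1)) = z (pt 1) := by
      intro u hu
      have h1 : u (pt 1) = pt 1 := mem_fixB.mp hu.2 2 (by norm_num)
      have := congrArg (fun σ : Equiv.Perm GolayPt => σ (pt 1)) (hcomm u (hle3 hu))
      simp only [Equiv.Perm.mul_apply] at this
      rw [h1] at this
      exact this.symm
    rcases fixed_of_fixB3 hfix with h | h | h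
    · rw [← hz0] at h
      have := z.injective h
      exact absurd (pt_injective_lt (by norm_num) (by norm_num) this) (by norm_num)
    · rw [← hz23] at h
      have := z.injective h
      exact absurd (pt_injective_lt (by norm_num) (by norm_num) this) (by norm_num)
    · exact h
  -- `z` fixes all other points
  have hzq : ∀ q : GolayPt, q ≠ pt 23 → q ≠ pt 0 → z q = q := by
    intro q n1 n2
    have hq : q ∈ bitSet (Dmask 2) := mem_bitSet.mpr (Dmask2_aux q n1 n2)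
    obtain ⟨u, hu, huq⟩ := hL 2 (by norm_num) q hq
    have hu' : u ∈ Cfsg.Spor.M22 := by rw [M22_eq]; exact ⟨K3_le hu.1, hu.2⟩
    rw [Equiv.Perm.smul_def, β2] at huq
    have := congrArg (fun σ : Equiv.Perm GolayPt => σ (pt 1)) (hcomm u hu')
    simp only [Equiv.Perm.mul_apply] at this
    rw [hz1, huq] at this
    exact this
  -- so `z` is a transposition
  have hswap : z = Equiv.swap (pt 23) (pt 0) := by
    refine Equiv.ext fun q => ?_
    by_cases h1 : q = pt 23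
    · rw [h1, hz23, Equiv.swap_apply_left]
    · by_cases h2 : q = pt 0
      · rw [h2, hz0, Equiv.swap_apply_right]
      · rw [hzq q h1 h2, Equiv.swap_apply_of_ne_of_ne h1 h2]
  have hs := sign_eq_one_of_mem_M24 hzM
  rw [hswap, Equiv.Perm.sign_swap (by decide +kernel)] at hs
  revert hs; decide

theorem main : ∀ ψ : MulAut ↥Cfsg.Spor.M22,
    ψ ∈ Cfsg.Inn ↥Cfsg.Spor.M22 ∨ θ * ψ ∈ Cfsg.Inn ↥Cfsg.Spor.M22 := by
  intro ψ
  obtain ⟨h1, h2, h3, h4, h5⟩ := cert_tbl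
  obtain ⟨m1, m2, m3, m4, a0, b0, c0, a23, b23, c23, m8, m9, mθ⟩ := cert_misc
  obtain ⟨a, haM, haT⟩ := tblOK_univ_sound h1
  obtain ⟨b, hbM, hbT⟩ := tblOK_univ_sound h2
  obtain ⟨c, hcM, hcT⟩ := tblOK_univ_sound h3
  have haiT : HasTbl a⁻¹ aiT := haT.inv h4
  have hciT : HasTbl c⁻¹ ciT := hcT.inv h5
  have ha : a ∈ Cfsg.Spor.M22 :=
    mem_M22.mpr ⟨haM, fixes_pt haT (by norm_num) a23, fixes_pt haT (by norm_num) a0⟩
  have hb : b ∈ Cfsg.Spor.M22 :=
    mem_M22.mpr ⟨hbM, fixes_pt hbT (by norm_num) b23, fixes_pt hbT (by norm_num) b0⟩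
  have hc : c ∈ Cfsg.Spor.M22 :=
    mem_M22.mpr ⟨hcM, fixes_pt hcT (by norm_num) c23, fixes_pt hcT (by norm_num) c0⟩
  have ha1 : a ≠ 1 := ne_one_of_tbl haT (by norm_num) m8
  have hb1 : b ≠ 1 := ne_one_of_tbl hbT (by norm_num) m9
  have : Fact (Nat.Prime 11) := ⟨by norm_num⟩
  have hap : a ^ 11 = 1 := by
    have := eq_one_of_relOKN haT.hasN hbT.hasN m1
    simpa [evalW] using this
  have hb2 : b ^ 2 = 1 := by
    have := eq_one_of_relOKN haT.hasN hbT.hasN m2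
    simpa [evalW] using this
  have hle : Cfsg.Spor.M22 ≤ M24 := fun g hg => (mem_M22.mp hg).1
  let D : AutData Cfsg.Spor.M22 :=
    { p := 11
      k := 3
      hp := by norm_num
      a := a
      b := b
      c := c
      aN := encL aT
      aiN := encL aiT
      bN := encL bT
      ha := ha
      hb := hb
      hc := hc
      hH := hle
      haN := haT.hasN
      haiN := haiT.hasN
      hbN := hbT.hasN
      hgen := by
        rw [M22_eq]
        exact M24_fixB_le (closure_pair_le haM hbM) (sound_pair haT hbT prog) 2 (by norm_num)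
          cert_gen
      hfac := factorization_eq_one (by norm_num) (card_M22.trans (by norm_num : 443520 = 11 * 40320))
        (by norm_num) (by norm_num)
      hord := orderOf_eq_prime hap ha1
      hb2 := orderOf_eq_prime hb2 hb1
      hca := by
        apply HasN.ext ((hcT.hasN.mul haT.hasN).mul hciT.hasN)
        rw [m3]
        have e : a ^ 3 = a * a * a := by rw [pow_succ, pow_two]
        rw [e]
        exact (haT.hasN.mul haT.hasN).mul haT.hasN
      hk := fun m hm hm0 => by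
        obtain ⟨j, -, hj⟩ := cert_k m hm hm0
        exact ⟨j, hj⟩
      rels := rels
      hrel := fun r hr => eq_one_of_relOKN haT.hasN hbT.hasN (List.all_eq_true.mp m4 r hr)
      inG := inG
      hinG := fun y hy n hn => by
        unfold inG
        rw [Bool.and_eq_true]
        obtain ⟨-, y23, y0⟩ := mem_M22.mp hy
        constructor
        · have := hn 23 (by norm_num)
          rw [y23, idx_pt (by norm_num)] at this
          rw [← this]; rfl
        · have := hn 0 (by norm_num)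
          rw [y0, idx_pt (by norm_num)] at this
          rw [← this]; rfl
      hfix := fun ψ => ⟨pt 23, (mem_M22.mp (ψ ⟨b, hb⟩).2).2.1⟩
      cert := cert_fp }
  apply D.inner_or θ _ ψ
  apply Subtype.ext
  show projInv * a * projInv⁻¹ = ((⟨a, ha⟩ : ↥Cfsg.Spor.M22)⁻¹ : ↥Cfsg.Spor.M22)
  rw [Subgroup.coe_inv]
  apply HasN.ext _ haiT.hasN
  rw [← mθ]
  exact (hasTbl_projInv.hasN.mul haT.hasN).mul (hasTbl_projInv.inv okInv_pi).hasN

theorem card_out : Nat.card (Cfsg.Out ↥Cfsg.Spor.M22) = 2 :=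
  card_out_eq_two θ theta_not_inner main

end Cfsg.Agent.Lib.Helper3.OutM22
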