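import Mathlib
import Cfsg.Prelude.Def_Spor_Mathieu
import Cfsg.Agent.Lib.Helper3.OutAut.Core
import Cfsg.Agent.Lib.Helper3.OutAut.Gen

set_option autoImplicit false

/-! The outer automorphism group of `M23` is trivial. -/

namespace Cfsg.Agent.Lib.Helper3.OutM23

open Cfsg Cfsg.Agent.Lib.Helper3.Golay Cfsg.Agent.Lib.Helper3.OutAut
open scoped Pointwise

def aT : List ℕ := [1, 2, 3, 4, 5, 6, 7, 8, 9, 10, 11, 12, 13, 14, 15, 16, 17, 18, 19, 20, 21, 22, 0, 23]
def aiT : List ℕ := [22, 0, 1, 2, 3, 4, 5, 6, 7, 8, 9, 10, 11, 12, 13, 14, 15, 16, 17, 18, 19, 20, 21, 23]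
def bT : List ℕ := [0, 1, 2, 3, 6, 5, 4, 22, 20, 12, 11, 10, 9, 19, 14, 18, 21, 17, 15, 13, 8, 16, 7, 23]
def cT : List ℕ := [0, 2, 4, 6, 8, 10, 12, 14, 16, 18, 20, 22, 1, 3, 5, 7, 9, 11, 13, 15, 17, 19, 21, 23]
def ciT : List ℕ := [0, 12, 1, 13, 2, 14, 3, 15, 4, 16, 5, 17, 6, 18, 7, 19, 8, 20, 9, 21, 10, 22, 11, 23]
def prog : List Ins := [
  .mul 0 0, .mul 0 2, .mul 0 3, .mul 0 4, .mul 1 4, .mul 0 6, .mul 0 7, .mul 1 7,
  .mul 0 8, .mul 1 8, .mul 0 10, .mul 1 10, .mul 0 11, .mul 0 12, .mul 0 13, .mul 1 14,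
  .mul 0 16, .mul 1 16, .mul 0 17, .mul 0 18, .mul 0 20, .mul 1 1, .mul 1 23, .mul 1 24,
  .mul 1 25, .mul 1 26, .mul 0 27, .mul 1 28, .mul 0 29, .mul 1 30, .mul 0 31, .mul 1 32,
  .mul 0 33, .inv 4, .mul 35 34, .mul 36 36, .mul 36 37, .mul 36 38, .mul 36 39, .mul 1 0,
  .mul 1 41, .mul 0 42, .mul 0 43, .mul 1 44, .mul 1 45, .mul 0 46, .mul 1 47, .mul 0 48,
  .mul 1 49, .mul 0 50, .mul 0 51, .mul 1 52, .inv 0, .mul 54 53, .mul 55 37, .mul 55 38,
  .mul 55 56, .mul 55 39, .mul 36 57, .mul 55 57, .mul 55 40, .mul 36 59, .mul 36 60, .mul 36 61,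
  .mul 36 63, .mul 36 64, .mul 36 65, .mul 55 66, .mul 55 67, .mul 36 68, .mul 0 1, .mul 0 72,
  .mul 0 73, .mul 1 74, .mul 1 75, .mul 1 76, .mul 0 77, .mul 0 78, .inv 5, .mul 80 79,
  .inv 36, .mul 82 81, .mul 83 83, .mul 83 84, .mul 83 85, .mul 83 86, .mul 1 73, .mul 1 88,
  .mul 1 89, .mul 0 90, .mul 1 91, .mul 1 92, .mul 1 93, .mul 1 94, .mul 0 95, .mul 35 96,
  .mul 97 83, .mul 97 84, .mul 83 98, .mul 97 98, .mul 97 85, .mul 83 99, .mul 97 99, .mul 83 100,
  .mul 97 100, .mul 83 101, .mul 97 101, .mul 83 102, .mul 83 105, .mul 97 105, .mul 83 107, .mul 0 23,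
  .mul 1 113, .mul 1 114, .mul 1 115, .mul 1 116, .mul 1 117, .mul 0 118, .mul 1 119, .mul 1 120,
  .mul 0 121, .inv 3, .mul 123 122, .mul 0 24, .mul 0 125, .mul 0 126, .mul 1 127, .mul 0 128,
  .mul 1 129, .mul 0 130, .mul 1 131, .mul 0 132, .inv 108, .mul 134 133, .mul 135 124, .mul 0 89,
  .mul 1 137, .mul 0 138, .mul 0 139, .mul 1 140, .mul 0 141, .mul 1 142, .mul 1 143, .inv 6,
  .mul 145 144, .inv 38, .mul 147 146, .inv 111, .mul 149 148, .mul 150 124, .mul 124 150, .mul 150 150,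
  .mul 150 136, .mul 124 151, .mul 150 151, .mul 150 152, .mul 135 153, .mul 150 153, .mul 124 154, .mul 135 154,
  .mul 150 155, .mul 135 156, .mul 135 157, .mul 135 160, .mul 0 41, .mul 1 166, .mul 1 167, .mul 1 168,
  .mul 1 169, .mul 1 170, .inv 2, .mul 172 171, .inv 83, .mul 174 173, .inv 150, .mul 176 175,
  .mul 177 177, .mul 0 25, .mul 1 179, .mul 0 180, .mul 0 181, .mul 0 182, .mul 1 183, .mul 1 184,
  .mul 0 185, .mul 0 186, .mul 145 187, .inv 62, .mul 189 188, .inv 102, .mul 191 190, .inv 164,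
  .mul 193 192, .inv 178, .mul 195 194, .mul 1 72, .mul 0 197, .mul 0 198, .mul 0 199, .mul 0 200,
  .mul 80 201, .inv 124, .mul 203 202, .mul 204 196, .mul 0 166, .mul 1 206, .mul 123 207, .mul 82 208,
  .mul 174 209, .mul 203 210, .mul 211 196, .mul 211 204, .mul 211 205, .mul 1 3, .mul 0 215, .mul 0 216,
  .mul 0 217, .mul 1 218, .mul 1 219, .mul 145 220, .inv 40, .mul 222 221, .inv 101, .mul 224 223,
  .inv 162, .mul 226 225, .mul 227 196, .mul 227 204, .mul 227 211, .mul 227 205, .mul 227 212, .mul 227 213,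
  .mul 227 214]
def rels : List (List ℕ × ℕ) := [([0, 1], 6), ([0, 0, 1], 8), ([0, 1, 0, 0, 1, 0, 0, 0, 1], 3)]


theorem cert_tbl : tblOK 0xffffff aT = true ∧ tblOK 0xffffff bT = true ∧ tblOK 0xffffff cT = true ∧
    okInv aT aiT = true ∧ okInv cT ciT = true := by decide +kernel

theorem cert_gen : allBelow 7 (fun k => Nat.blt k 1 ||
    transOK (run prog [aT, bT] ++ [idT]) baseL k (Dmask k)) = true := by decide +kernel

theorem cert_misc : relOKN (encL aT) (encL bT) ([0], 23) = true ∧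
    relOKN (encL aT) (encL bT) ([1], 2) = true ∧
    compN (compN (encL cT) (encL aT)) (encL ciT) = compN (encL aT) (encL aT) ∧
    rels.all (relOKN (encL aT) (encL bT)) = true ∧
    aT.getD 23 0 = 23 ∧ bT.getD 23 0 = 23 ∧ cT.getD 23 0 = 23 ∧ aT.getD 0 0 ≠ 0 ∧ bT.getD 4 0 ≠ 4 := by
  decide +kernel

theorem cert_k : ∀ m, m < 23 → m ≠ 0 → ∃ j < 23, 2 ^ j % 23 = m ∨ (2 ^ j + m) % 23 = 0 := by
  decide

/-- membership test for the codes -/
def inG (n : ℕ) : Bool := Nat.beq (lookN n 23) 23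

set_option maxRecDepth 100000 in
theorem cert_fp : T24.all (fun n => !(inG n) || !(rels.all (relOKN (encL aT) n)) ||
    inOrbitN (encL aT) (encL aiT) (encL bT) 23 n) = true := by decide +kernel

set_option maxRecDepth 100000 in
theorem cert_fp' : T24.all (fun n => !(inG n) || !(rels.all (relOKN (encL aiT) n))) = true := by
  decide +kernel

theorem pt23 : pt 23 = (none : GolayPt) := rfl

theorem mem_M23 {g : Equiv.Perm GolayPt} : g ∈ Cfsg.Spor.M23 ↔ g ∈ M24 ∧ g none = none := by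
  unfold Cfsg.Spor.M23
  rw [Subgroup.mem_inf]
  constructor <;> rintro ⟨h1, h2⟩ <;> exact ⟨h1, h2⟩

theorem M23_eq : Cfsg.Spor.M23 = M24 ⊓ fixB 1 := by
  ext g
  rw [mem_M23, Subgroup.mem_inf, mem_fixB]
  constructor
  · rintro ⟨h1, h2⟩
    refine ⟨h1, fun j hj => ?_⟩
    have : j = 0 := by omega
    subst this
    exact h2
  · rintro ⟨h1, h2⟩
    exact ⟨h1, h2 0 (by norm_num)⟩

theorem card_M23 : Nat.card ↥Cfsg.Spor.M23 = 10200960 := by
  rw [M23_eq, card_M24_inf_fixB (by norm_num : 1 ≤ 7)]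
  decide

theorem fixes_none {g : Equiv.Perm GolayPt} {T : List ℕ} (h : HasTbl g T) (h23 : T.getD 23 0 = 23) :
    g none = none := by
  rw [← pt23, h.apply (by norm_num), h23]

theorem all_inner (ψ : MulAut ↥Cfsg.Spor.M23) : ∃ g : ↥Cfsg.Spor.M23, ψ = MulAut.conj g := by
  obtain ⟨h1, h2, h3, h4, h5⟩ := cert_tbl
  obtain ⟨m1, m2, m3, m4, m5, m6, m7, m8, m9⟩ := cert_misc
  obtain ⟨a, haM, haT⟩ := tblOK_univ_sound h1
  obtain ⟨b, hbM, hbT⟩ := tblOK_univ_sound h2
  obtain ⟨c, hcM, hcT⟩ := tblOK_univ_sound h3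
  have haiT : HasTbl a⁻¹ aiT := haT.inv h4
  have hciT : HasTbl c⁻¹ ciT := hcT.inv h5
  have ha : a ∈ Cfsg.Spor.M23 := mem_M23.mpr ⟨haM, fixes_none haT m5⟩
  have hb : b ∈ Cfsg.Spor.M23 := mem_M23.mpr ⟨hbM, fixes_none hbT m6⟩
  have hc : c ∈ Cfsg.Spor.M23 := mem_M23.mpr ⟨hcM, fixes_none hcT m7⟩
  have ha1 : a ≠ 1 := by
    intro h
    have := haT.apply (show 0 < 24 by norm_num)
    rw [h, Equiv.Perm.one_apply] at this
    have := congrArg idx this
    rw [idx_pt (by norm_num), idx_pt (haT.lt (by norm_num))] at this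
    exact m8 this.symm
  have hb1 : b ≠ 1 := by
    intro h
    have := hbT.apply (show 4 < 24 by norm_num)
    rw [h, Equiv.Perm.one_apply] at this
    have := congrArg idx this
    rw [idx_pt (by norm_num), idx_pt (hbT.lt (by norm_num))] at this
    exact m9 this.symm
  have : Fact (Nat.Prime 23) := ⟨by norm_num⟩
  have hap : a ^ 23 = 1 := by
    have := eq_one_of_relOKN haT.hasN hbT.hasN m1
    simpa [evalW] using this
  have hb2 : b ^ 2 = 1 := by
    have := eq_one_of_relOKN haT.hasN hbT.hasN m2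
    simpa [evalW] using this
  let D : AutData Cfsg.Spor.M23 :=
    { p := 23
      k := 2
      hp := by norm_num
      a := a
      b := b
      c := c
      aN := encL aT
      aiN := encL aiT
      bN := encL bT
      ha := ha
      hb := hb
      hc := hc
      hH := inf_le_left
      haN := haT.hasN
      haiN := haiT.hasN
      hbN := hbT.hasN
      hgen := by
        rw [M23_eq]
        exact M24_fixB_le (closure_pair_le haM hbM) (sound_pair haT hbT prog) 1 (by norm_num)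
          cert_gen
      hfac := factorization_eq_one (by norm_num) (card_M23.trans (by norm_num : 10200960 = 23 * 443520))
        (by norm_num) (by norm_num)
      hord := orderOf_eq_prime hap ha1
      hb2 := orderOf_eq_prime hb2 hb1
      hca := by
        apply HasN.ext ((hcT.hasN.mul haT.hasN).mul hciT.hasN)
        rw [m3, pow_two]
        exact haT.hasN.mul haT.hasN
      hk := fun m hm hm0 => by
        obtain ⟨j, -, hj⟩ := cert_k m hm hm0
        exact ⟨j, hj⟩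
      rels := rels
      hrel := fun r hr => eq_one_of_relOKN haT.hasN hbT.hasN (List.all_eq_true.mp m4 r hr)
      inG := inG
      hinG := fun y hy n hn => by
        unfold inG
        have := hn 23 (by norm_num)
        rw [pt23, (mem_M23.mp hy).2] at this
        rw [← this]
        rfl
      hfix := fun ψ => ⟨none, (mem_M23.mp (ψ ⟨b, hb⟩).2).2⟩
      cert := cert_fp }
  exact D.inner cert_fp' ψ

theorem card_out : Nat.card (Cfsg.Out ↥Cfsg.Spor.M23) = 1 := card_out_eq_one all_inner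

end Cfsg.Agent.Lib.Helper3.OutM23
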