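import Mathlib
import Cfsg.Prelude.Def_Spor_Mathieu
import Cfsg.Agent.Lib.Helper3.OutAut.Core
import Cfsg.Agent.Lib.Helper3.OutAut.Gen
import Cfsg.Agent.Lib.Helper3.OutAut.Dod

set_option autoImplicit false

/-! The outer automorphism group of `M11` is trivial. -/

namespace Cfsg.Agent.Lib.Helper3.OutM11

open Cfsg Cfsg.Agent.Lib.Helper3.Golay Cfsg.Agent.Lib.Helper3.OutAut
open scoped Pointwise

def aT : List ℕ := [0, 2, 4, 6, 8, 10, 12, 14, 16, 18, 20, 22, 1, 3, 5, 7, 9, 11, 13, 15, 17, 19, 21, 23]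
def aiT : List ℕ := [0, 12, 1, 13, 2, 14, 3, 15, 4, 16, 5, 17, 6, 18, 7, 19, 8, 20, 9, 21, 10, 22, 11, 23]
def bT : List ℕ := [0, 1, 2, 4, 3, 15, 13, 10, 18, 16, 7, 23, 12, 6, 21, 5, 9, 17, 8, 19, 20, 14, 22, 11]
def cT : List ℕ := [0, 1, 8, 4, 18, 5, 9, 22, 6, 16, 17, 10, 3, 12, 15, 20, 2, 7, 13, 14, 21, 19, 11, 23]
def ciT : List ℕ := [0, 1, 16, 12, 3, 5, 8, 17, 2, 6, 11, 22, 13, 18, 19, 14, 9, 10, 4, 21, 15, 20, 7, 23]
def prog : List Ins := [
  .mul 0 0, .mul 0 2, .mul 1 2, .mul 0 3, .mul 1 3, .mul 0 4, .mul 0 5, .mul 0 6,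
  .mul 0 7, .mul 1 4, .mul 1 11, .mul 0 12, .mul 0 13, .mul 0 14, .mul 1 15, .mul 0 16,
  .mul 0 17, .inv 2, .mul 19 18, .mul 20 20, .mul 20 21, .mul 1 0, .mul 0 23, .mul 1 24,
  .mul 1 25, .mul 19 26, .mul 27 22, .mul 1 1, .mul 1 29, .mul 1 30, .mul 0 31, .mul 1 32,
  .mul 0 33, .mul 0 34, .mul 0 35, .mul 1 36, .mul 0 37, .mul 1 38, .inv 3, .mul 40 39,
  .mul 20 41, .mul 41 41, .mul 27 42, .mul 20 43, .mul 1 31, .mul 1 46, .mul 0 47, .mul 1 48,
  .mul 0 49, .mul 1 50, .mul 0 51, .mul 1 52, .mul 0 53, .inv 4, .mul 55 54, .inv 43,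
  .mul 57 56, .mul 58 58, .mul 58 59, .mul 1 23, .mul 0 61, .mul 0 62, .mul 1 63, .mul 1 64,
  .mul 0 65, .mul 1 66, .mul 0 67, .mul 1 68, .mul 0 69, .mul 0 70, .mul 1 71, .inv 5,
  .mul 73 72, .inv 21, .mul 75 74, .mul 76 58, .mul 58 76, .mul 58 77, .mul 76 79, .mul 0 1,
  .mul 0 81, .mul 0 82, .mul 1 83, .mul 1 84, .mul 1 85, .mul 0 86, .mul 0 87, .mul 55 88,
  .inv 20, .mul 90 89, .inv 79, .mul 92 91, .mul 93 93, .mul 93 94, .mul 0 30, .mul 0 96,
  .mul 0 97, .mul 1 98, .mul 0 99, .mul 1 100, .mul 0 101, .mul 1 102, .mul 0 103, .inv 42,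
  .mul 105 104, .inv 59, .mul 107 106, .mul 108 93, .mul 93 108, .mul 108 94]
def rels : List (List ℕ × ℕ) := [([0, 1, 0, 0, 0, 0, 1, 0, 0, 0, 1], 3), ([0, 1], 8)]


theorem cert_tbl : tblOK d0 aT = true ∧ tblOK d0 bT = true ∧ tblOK d0 cT = true ∧
    okInv aT aiT = true ∧ okInv cT ciT = true := by decide +kernel

theorem cert_gen : allBelow 5 (fun k => Nat.blt k 1 ||
    transOK (run prog [aT, bT] ++ [idT]) bs2 k (D2L.getD k 0)) = true := by decide +kernel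

theorem cert_misc : relOKN (encL aT) (encL bT) ([0], 11) = true ∧
    relOKN (encL aT) (encL bT) ([1], 2) = true ∧
    compN (compN (encL cT) (encL aT)) (encL ciT) = compN (compN (encL aT) (encL aT)) (encL aT) ∧
    rels.all (relOKN (encL aT) (encL bT)) = true ∧
    aT.getD 0 0 = 0 ∧ bT.getD 0 0 = 0 ∧ cT.getD 0 0 = 0 ∧ aT.getD 1 0 ≠ 1 ∧ bT.getD 3 0 ≠ 3 := by
  decide +kernel

theorem cert_k : ∀ m, m < 11 → m ≠ 0 → ∃ j < 11, 3 ^ j % 11 = m ∨ (3 ^ j + m) % 11 = 0 := by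
  decide

/-- membership test for the codes -/
def inG (n : ℕ) : Bool := Nat.beq (lookN n 0) 0 && inD n

set_option maxRecDepth 100000 in
theorem cert_fp : T24.all (fun n => !(inG n) || !(rels.all (relOKN (encL aT) n)) ||
    inOrbitN (encL aT) (encL aiT) (encL bT) 11 n) = true := by decide +kernel

set_option maxRecDepth 100000 in
theorem cert_fp' : T24.all (fun n => !(inG n) || !(rels.all (relOKN (encL aiT) n))) = true := by
  decide +kernel

theorem mem_M11 {g : Equiv.Perm GolayPt} : g ∈ Cfsg.Spor.M11 ↔ g ∈ H12 ∧ g (pt 0) = pt 0 := by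
  rw [M11_eq, Subgroup.mem_inf]
  constructor <;> rintro ⟨h1, h2⟩ <;> exact ⟨h1, h2⟩

theorem all_inner (ψ : MulAut ↥Cfsg.Spor.M11) : ∃ g : ↥Cfsg.Spor.M11, ψ = MulAut.conj g := by
  obtain ⟨h1, h2, h3, h4, h5⟩ := cert_tbl
  obtain ⟨m1, m2, m3, m4, m5, m6, m7, m8, m9⟩ := cert_misc
  obtain ⟨a, haM, haT⟩ := tblOK_sound h1
  obtain ⟨b, hbM, hbT⟩ := tblOK_sound h2
  obtain ⟨c, hcM, hcT⟩ := tblOK_sound h3
  have haiT : HasTbl a⁻¹ aiT := haT.inv h4
  have hciT : HasTbl c⁻¹ ciT := hcT.inv h5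
  have ha : a ∈ Cfsg.Spor.M11 := mem_M11.mpr ⟨haM, fixes_pt haT (by norm_num) m5⟩
  have hb : b ∈ Cfsg.Spor.M11 := mem_M11.mpr ⟨hbM, fixes_pt hbT (by norm_num) m6⟩
  have hc : c ∈ Cfsg.Spor.M11 := mem_M11.mpr ⟨hcM, fixes_pt hcT (by norm_num) m7⟩
  have ha1 : a ≠ 1 := ne_one_of_tbl haT (by norm_num) m8
  have hb1 : b ≠ 1 := ne_one_of_tbl hbT (by norm_num) m9
  have : Fact (Nat.Prime 11) := ⟨by norm_num⟩
  have hap : a ^ 11 = 1 := by
    have := eq_one_of_relOKN haT.hasN hbT.hasN m1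
    simpa [evalW] using this
  have hb2 : b ^ 2 = 1 := by
    have := eq_one_of_relOKN haT.hasN hbT.hasN m2
    simpa [evalW] using this
  have hle : Cfsg.Spor.M11 ≤ M24 := by
    intro g hg
    exact (mem_M11.mp hg).1.1
  let D : AutData Cfsg.Spor.M11 :=
    { p := 11
      k := 3
      hp := by norm_num
      a := a
      b := b
      c := c
      aN := encL aT
      aiN := encL aiT
      bN := encL bT
      ha := ha
      hb := hb
      hc := hc
      hH := hle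
      haN := haT.hasN
      haiN := haiT.hasN
      hbN := hbT.hasN
      hgen := by
        rw [M11_eq']
        exact H12_fix_le (closure_pair_le haM hbM) (sound_pair haT hbT prog) 1 (by norm_num)
          cert_gen
      hfac := factorization_eq_one (by norm_num) (card_M11.trans (by norm_num : 7920 = 11 * 720))
        (by norm_num) (by norm_num)
      hord := orderOf_eq_prime hap ha1
      hb2 := orderOf_eq_prime hb2 hb1
      hca := by
        apply HasN.ext ((hcT.hasN.mul haT.hasN).mul hciT.hasN)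
        rw [m3]
        have e : a ^ 3 = a * a * a := by rw [pow_succ, pow_two]
        rw [e]
        exact (haT.hasN.mul haT.hasN).mul haT.hasN
      hk := fun m hm hm0 => by
        obtain ⟨j, -, hj⟩ := cert_k m hm hm0
        exact ⟨j, hj⟩
      rels := rels
      hrel := fun r hr => eq_one_of_relOKN haT.hasN hbT.hasN (List.all_eq_true.mp m4 r hr)
      inG := inG
      hinG := fun y hy n hn => by
        unfold inG
        rw [Bool.and_eq_true]
        refine ⟨?_, inD_of_mem (mem_M11.mp hy).1 hn⟩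
        have := hn 0 (by norm_num)
        rw [(mem_M11.mp hy).2, idx_pt (by norm_num)] at this
        rw [← this]
        rfl
      hfix := fun ψ => ⟨pt 0, (mem_M11.mp (ψ ⟨b, hb⟩).2).2⟩
      cert := cert_fp }
  exact D.inner cert_fp' ψ

theorem card_out : Nat.card (Cfsg.Out ↥Cfsg.Spor.M11) = 1 := card_out_eq_one all_inner

end Cfsg.Agent.Lib.Helper3.OutM11
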