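import Mathlib
import Cfsg.Prelude.Def_Spor_Mathieu
import Cfsg.Agent.Lib.Helper3.OutAut.Core
import Cfsg.Agent.Lib.Helper3.OutAut.Gen
import Cfsg.Agent.Lib.Helper3.OutAut.Dod
import Cfsg.Agent.Lib.Helper3.OutAut.Fix

set_option autoImplicit false

/-! The outer automorphism group of `M12` has order 2. -/

namespace Cfsg.Agent.Lib.Helper3.OutM12

open Cfsg Cfsg.Agent.Lib.Helper3.Golay Cfsg.Agent.Lib.Helper3.OutAut
open scoped Pointwise

def aT : List ℕ := [0, 2, 4, 6, 8, 10, 12, 14, 16, 18, 20, 22, 1, 3, 5, 7, 9, 11, 13, 15, 17, 19, 21, 23]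
def aiT : List ℕ := [0, 12, 1, 13, 2, 14, 3, 15, 4, 16, 5, 17, 6, 18, 7, 19, 8, 20, 9, 21, 10, 22, 11, 23]
def bT : List ℕ := [9, 1, 2, 6, 4, 19, 3, 21, 16, 0, 10, 11, 13, 12, 17, 23, 8, 14, 18, 5, 20, 7, 22, 15]
def cT : List ℕ := [0, 1, 8, 4, 18, 5, 9, 22, 6, 16, 17, 10, 3, 12, 15, 20, 2, 7, 13, 14, 21, 19, 11, 23]
def ciT : List ℕ := [0, 1, 16, 12, 3, 5, 8, 17, 2, 6, 11, 22, 13, 18, 19, 14, 9, 10, 4, 21, 15, 20, 7, 23]
def xT : List ℕ := [16, 18, 2, 0, 4, 21, 9, 14, 12, 8, 11, 22, 3, 6, 23, 19, 13, 15, 1, 7, 10, 17, 20, 5]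
def prog : List Ins := [
  .mul 0 1, .mul 0 2, .mul 0 3, .mul 1 3, .mul 0 4, .mul 0 5, .mul 0 7, .mul 0 8,
  .mul 0 9, .mul 0 10, .mul 0 0, .mul 1 12, .mul 1 13, .mul 1 14, .mul 0 15, .mul 0 16,
  .mul 0 17, .mul 1 18, .mul 0 19, .mul 0 20, .inv 7, .mul 22 21, .mul 23 23, .mul 1 0,
  .mul 0 25, .mul 1 26, .mul 1 27, .inv 2, .mul 29 28, .mul 30 23, .mul 23 30, .mul 30 30,
  .mul 30 24, .mul 23 32, .mul 30 32, .mul 30 33, .mul 1 1, .mul 1 38, .mul 1 39, .mul 0 40,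
  .mul 1 41, .mul 0 42, .mul 0 43, .mul 0 44, .mul 1 45, .mul 0 46, .mul 1 47, .inv 3,
  .mul 49 48, .inv 30, .mul 51 50, .mul 52 52, .mul 52 53, .mul 1 40, .mul 1 55, .mul 0 56,
  .mul 1 57, .mul 0 58, .mul 1 59, .mul 0 60, .mul 1 61, .mul 0 62, .mul 22 63, .mul 51 64,
  .mul 1 25, .mul 0 66, .mul 0 67, .mul 1 68, .mul 1 69, .mul 0 70, .mul 1 71, .mul 0 72,
  .mul 1 73, .mul 0 74, .mul 0 75, .mul 1 76, .inv 6, .mul 78 77, .inv 31, .mul 80 79,
  .mul 81 52, .mul 81 81, .mul 81 53, .mul 65 82, .mul 81 54, .mul 1 4, .mul 1 87, .mul 1 88,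
  .mul 0 89, .mul 0 90, .mul 22 91, .mul 80 92, .inv 54, .mul 94 93, .mul 0 12, .mul 0 96,
  .mul 0 97, .mul 1 98, .mul 1 99, .mul 80 100, .inv 81, .mul 102 101, .mul 103 95, .mul 95 103,
  .mul 103 103, .mul 103 104, .mul 95 106, .mul 103 107, .mul 1 15, .mul 1 110, .mul 0 111, .mul 1 112,
  .mul 0 113, .mul 1 114, .mul 1 115, .mul 49 116, .inv 23, .mul 118 117, .mul 102 119, .inv 95,
  .mul 121 120, .mul 122 122, .mul 122 123, .mul 0 39, .mul 0 125, .mul 0 126, .mul 1 127, .mul 0 128,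
  .mul 1 129, .mul 0 130, .mul 1 131, .mul 0 132, .inv 5, .mul 134 133, .inv 37, .mul 136 135,
  .mul 102 137, .mul 121 138, .mul 139 122, .mul 122 139, .mul 139 123]
def rels : List (List ℕ × ℕ) := [([0, 1, 0, 1, 0, 0, 1], 4), ([0, 1, 0, 0, 0, 0, 1, 0, 0, 0, 1], 6)]


theorem cert_tbl : tblOK d0 aT = true ∧ tblOK d0 bT = true ∧ tblOK d0 cT = true ∧
    tblOK d0 xT = true ∧ okInv aT aiT = true ∧ okInv cT ciT = true := by decide +kernel

theorem cert_gen : allBelow 5 (fun k => Nat.blt k 0 ||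
    transOK (run prog [aT, bT] ++ [idT]) bs2 k (D2L.getD k 0)) = true := by decide +kernel

theorem cert_misc : relOKN (encL aT) (encL bT) ([0], 11) = true ∧
    relOKN (encL aT) (encL bT) ([1], 2) = true ∧
    compN (compN (encL cT) (encL aT)) (encL ciT) = compN (compN (encL aT) (encL aT)) (encL aT) ∧
    rels.all (relOKN (encL aT) (encL bT)) = true ∧
    relOKN (encL xT) (encL bT) ([0], 8) = true ∧
    compN (compN (encL xT) (encL xT)) (compN (encL xT) (encL xT)) = encL bT ∧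
    aT.getD 1 0 ≠ 1 ∧ bT.getD 0 0 ≠ 0 ∧
    compN (compN (encL piL) (encL aT)) (encL piL) = encL aiT := by
  decide +kernel

theorem cert_k : ∀ m, m < 11 → m ≠ 0 → ∃ j < 11, 3 ^ j % 11 = m ∨ (3 ^ j + m) % 11 = 0 := by
  decide

set_option maxRecDepth 100000 in
theorem cert_fp : T24.all (fun n => !(inD n) || !(rels.all (relOKN (encL aT) n)) ||
    inOrbitN (encL aT) (encL aiT) (encL bT) 11 n) = true := by decide +kernel

/-- the complement of the base dodecad -/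
def dc : ℕ := 0xffffff - d0

theorem dc_aux : ∀ q : GolayPt, dc.testBit (idx q) = !d0.testBit (idx q) := by decide +kernel

theorem mem_dc {q : GolayPt} : q ∈ bitSet dc ↔ q ∉ bitSet d0 := by
  rw [mem_bitSet, mem_bitSet, dc_aux]
  simp

theorem smul_dc {g : Equiv.Perm GolayPt} (hg : g • bitSet d0 = bitSet d0) :
    g • bitSet dc = bitSet dc := by
  ext p
  rw [← Finset.inv_smul_mem_iff, mem_dc, mem_dc, ← mem_smul_iff_of_smul_eq hg (g⁻¹ • p)]
  have : g (g⁻¹ • p) = p := smul_inv_smul g p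
  rw [this]

theorem projInv_mem : projInv ∈ M24 := K3_le (Subgroup.subset_closure (by simp))

theorem projInv_inv : projInv⁻¹ = projInv :=
  HasTbl.ext (hasTbl_projInv.inv okInv_pi) hasTbl_projInv

theorem projInv_d0 : projInv • bitSet d0 = bitSet dc := by
  rw [hasTbl_projInv.smul_bitSet]
  congr 1

theorem projInv_dc : projInv • bitSet dc = bitSet d0 := by
  rw [hasTbl_projInv.smul_bitSet]
  congr 1

theorem mem_M12 {g : Equiv.Perm GolayPt} :
    g ∈ Cfsg.Spor.M12 ↔ g ∈ M24 ∧ g • bitSet d0 = bitSet d0 := by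
  rw [M12_eq]
  unfold H12
  rw [Subgroup.mem_inf]
  constructor <;> rintro ⟨h1, h2⟩ <;> exact ⟨h1, h2⟩

theorem norm1 : ∀ g ∈ Cfsg.Spor.M12, projInv * g * projInv⁻¹ ∈ Cfsg.Spor.M12 := by
  intro g hg
  obtain ⟨h1, h2⟩ := mem_M12.mp hg
  refine mem_M12.mpr ⟨M24.mul_mem (M24.mul_mem projInv_mem h1) (M24.inv_mem projInv_mem), ?_⟩
  rw [projInv_inv, mul_smul, mul_smul, projInv_d0, smul_dc h2, projInv_dc]

theorem norm2 : ∀ g ∈ Cfsg.Spor.M12, projInv⁻¹ * g * projInv ∈ Cfsg.Spor.M12 := by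
  intro g hg
  have := norm1 g hg
  rwa [projInv_inv] at this ⊢

/-- the automorphism induced by the projective inversion -/
def θ : MulAut ↥Cfsg.Spor.M12 := conjAut Cfsg.Spor.M12 projInv norm1 norm2

theorem b3_0 : b3 0 = pt 5 := rfl

/-- the stabilizer of the point 0 in the stabilizer of the base dodecad fixes no other point -/
theorem exists_move {q : GolayPt} (hq : q ≠ pt 0) : ∃ h ∈ H11, h q ≠ q := by
  by_cases hd : q ∈ bitSet d0
  · have key : ∀ y ∈ bitSet d0, y ≠ pt 0 → ∃ u ∈ H11, u (pt 1) = y := by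
      intro y hy hy0
      obtain ⟨u, hu, hfix, hmap⟩ := trans2 1 (by norm_num) y hy (by
        intro j hj
        have : j = 0 := by omega
        subst this
        exact hy0)
      refine ⟨u, Subgroup.mem_inf.mpr ⟨hu, ?_⟩, hmap⟩
      rw [MulAction.mem_stabilizer_iff]
      exact hfix 0 (by norm_num)
    by_cases h1 : q = pt 1
    · obtain ⟨u, hu, huq⟩ := key (pt 2) (by rw [mem_bitSet]; decide +kernel) (by decide +kernel)
      refine ⟨u, hu, ?_⟩
      rw [h1, huq]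
      decide +kernel
    · obtain ⟨u, hu, huq⟩ := key q hd hq
      refine ⟨u⁻¹, Subgroup.inv_mem _ hu, ?_⟩
      intro h
      rw [Equiv.Perm.inv_eq_iff_eq] at h
      exact h1 (u.injective (huq.trans h)).symm
  · have key : ∀ y ∉ bitSet d0, ∃ u ∈ H11, u (pt 5) = y := by
      intro y hy
      obtain ⟨u, hu, -, hmap⟩ := trans3 0 (by norm_num) y (by simpa using hy) (by
        intro j hj; omega)
      exact ⟨u, hu, hmap⟩
    by_cases h1 : q = pt 5
    · obtain ⟨u, hu, huq⟩ := key (pt 7) (by rw [mem_bitSet]; decide +kernel)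
      refine ⟨u, hu, ?_⟩
      rw [h1, huq]
      decide +kernel
    · obtain ⟨u, hu, huq⟩ := key q hd
      refine ⟨u⁻¹, Subgroup.inv_mem _ hu, ?_⟩
      intro h
      rw [Equiv.Perm.inv_eq_iff_eq] at h
      exact h1 (u.injective (huq.trans h)).symm

theorem theta_not_inner : θ ∉ Cfsg.Inn ↥Cfsg.Spor.M12 := by
  rintro ⟨g, hg⟩
  set z : Equiv.Perm GolayPt := (g : Equiv.Perm GolayPt)⁻¹ * projInv with hz
  have hcomm : ∀ h ∈ Cfsg.Spor.M12, z * h = h * z := by
    intro h hh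
    have := congrArg (fun φ : MulAut ↥Cfsg.Spor.M12 => ((φ ⟨h, hh⟩ : ↥Cfsg.Spor.M12) : Equiv.Perm GolayPt)) hg
    simp only [MulAut.conj_apply, Subgroup.coe_mul, Subgroup.coe_inv] at this
    have e : ((θ ⟨h, hh⟩ : ↥Cfsg.Spor.M12) : Equiv.Perm GolayPt) = projInv * h * projInv⁻¹ := rfl
    rw [e] at this
    rw [hz]
    have e2 : projInv * h = (g : Equiv.Perm GolayPt) * h * (g : Equiv.Perm GolayPt)⁻¹ * projInv := by
      rw [this]; group
    rw [mul_assoc, e2]; group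
  obtain ⟨hgM, hgd⟩ := mem_M12.mp g.2
  have hzd : z • bitSet d0 = bitSet dc := by
    rw [hz, mul_smul, projInv_d0]
    have : (g : Equiv.Perm GolayPt)⁻¹ • bitSet d0 = bitSet d0 := by
      rw [inv_smul_eq_iff, hgd]
    exact smul_dc this
  have hz0 : z (pt 0) = pt 0 := by
    by_contra hne
    obtain ⟨h, hh, hmove⟩ := exists_move hne
    have hh' : h ∈ Cfsg.Spor.M12 := by rw [M12_eq]; exact hh.1
    have h0 : h (pt 0) = pt 0 := hh.2
    have := congrArg (fun σ : Equiv.Perm GolayPt => σ (pt 0)) (hcomm h hh')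
    simp only [Equiv.Perm.mul_apply] at this
    rw [h0] at this
    exact hmove this.symm
  have h1 : pt 0 ∈ bitSet d0 := by rw [mem_bitSet]; decide +kernel
  have h2 : z • pt 0 ∈ z • bitSet d0 := Finset.smul_mem_smul_finset h1
  rw [hzd, Equiv.Perm.smul_def, hz0, mem_dc] at h2
  exact h2 h1

theorem main : ∀ ψ : MulAut ↥Cfsg.Spor.M12,
    ψ ∈ Cfsg.Inn ↥Cfsg.Spor.M12 ∨ θ * ψ ∈ Cfsg.Inn ↥Cfsg.Spor.M12 := by
  intro ψ
  obtain ⟨h1, h2, h3, hx, h4, h5⟩ := cert_tbl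
  obtain ⟨m1, m2, m3, m4, m5, m6, m8, m9, mθ⟩ := cert_misc
  obtain ⟨a, haM, haT⟩ := tblOK_sound h1
  obtain ⟨b, hbM, hbT⟩ := tblOK_sound h2
  obtain ⟨c, hcM, hcT⟩ := tblOK_sound h3
  obtain ⟨x, hxM, hxT⟩ := tblOK_sound hx
  have haiT : HasTbl a⁻¹ aiT := haT.inv h4
  have hciT : HasTbl c⁻¹ ciT := hcT.inv h5
  have ha : a ∈ Cfsg.Spor.M12 := by rw [M12_eq]; exact haM
  have hb : b ∈ Cfsg.Spor.M12 := by rw [M12_eq]; exact hbM
  have hc : c ∈ Cfsg.Spor.M12 := by rw [M12_eq]; exact hcM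
  have hxH : x ∈ Cfsg.Spor.M12 := by rw [M12_eq]; exact hxM
  have ha1 : a ≠ 1 := ne_one_of_tbl haT (by norm_num) m8
  have hb1 : b ≠ 1 := ne_one_of_tbl hbT (by norm_num) m9
  have : Fact (Nat.Prime 11) := ⟨by norm_num⟩
  have hap : a ^ 11 = 1 := by
    have := eq_one_of_relOKN haT.hasN hbT.hasN m1
    simpa [evalW] using this
  have hb2 : b ^ 2 = 1 := by
    have := eq_one_of_relOKN haT.hasN hbT.hasN m2
    simpa [evalW] using this
  have hx8 : x ^ 8 = 1 := by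
    have := eq_one_of_relOKN hxT.hasN hbT.hasN m5
    simpa [evalW] using this
  have hbx : b = x ^ 4 := by
    apply HasN.ext hbT.hasN
    rw [← m6]
    have e : x ^ 4 = (x * x) * (x * x) := by
      rw [show (4 : ℕ) = 2 + 2 from rfl, pow_add, pow_two]
    rw [e]
    exact (hxT.hasN.mul hxT.hasN).mul (hxT.hasN.mul hxT.hasN)
  have hle : Cfsg.Spor.M12 ≤ M24 := fun g hg => (mem_M12.mp hg).1
  let D : AutData Cfsg.Spor.M12 :=
    { p := 11
      k := 3
      hp := by norm_num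
      a := a
      b := b
      c := c
      aN := encL aT
      aiN := encL aiT
      bN := encL bT
      ha := ha
      hb := hb
      hc := hc
      hH := hle
      haN := haT.hasN
      haiN := haiT.hasN
      hbN := hbT.hasN
      hgen := by
        rw [M12_eq]
        have := H12_fix_le (closure_pair_le haM hbM) (sound_pair haT hbT prog) 0 (by norm_num)
          cert_gen
        simpa [fixSeq] using this
      hfac := factorization_eq_one (by norm_num) (card_M12.trans (by norm_num : 95040 = 11 * 8640))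
        (by norm_num) (by norm_num)
      hord := orderOf_eq_prime hap ha1
      hb2 := orderOf_eq_prime hb2 hb1
      hca := by
        apply HasN.ext ((hcT.hasN.mul haT.hasN).mul hciT.hasN)
        rw [m3]
        have e : a ^ 3 = a * a * a := by rw [pow_succ, pow_two]
        rw [e]
        exact (haT.hasN.mul haT.hasN).mul haT.hasN
      hk := fun m hm hm0 => by
        obtain ⟨j, -, hj⟩ := cert_k m hm hm0
        exact ⟨j, hj⟩
      rels := rels
      hrel := fun r hr => eq_one_of_relOKN haT.hasN hbT.hasN (List.all_eq_true.mp m4 r hr)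
      inG := inD
      hinG := fun y hy n hn => inD_of_mem (by rw [← M12_eq]; exact hy) hn
      hfix := fun ψ => fix_of_pow_four hle hb hxH hbx hx8 ψ
      cert := cert_fp }
  apply D.inner_or θ _ ψ
  apply Subtype.ext
  show projInv * a * projInv⁻¹ = ((⟨a, ha⟩ : ↥Cfsg.Spor.M12)⁻¹ : ↥Cfsg.Spor.M12)
  rw [Subgroup.coe_inv]
  apply HasN.ext _ haiT.hasN
  rw [← mθ]
  exact (hasTbl_projInv.hasN.mul haT.hasN).mul (hasTbl_projInv.inv okInv_pi).hasN

theorem card_out : Nat.card (Cfsg.Out ↥Cfsg.Spor.M12) = 2 :=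
  card_out_eq_two θ theta_not_inner main

end Cfsg.Agent.Lib.Helper3.OutM12
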